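import Cfsg.Agent.Chev.F4Invol.Verifier

/-! The certificate for the classes of involutions of `chevF4` in characteristic two, found by a
search. -/

set_option autoImplicit false
set_option maxRecDepth 100000

namespace Cfsg.Agent.Chev

namespace F4Invol

open UniCert

/-- The representatives. -/
def f4Reps : List (List ℕ) := [[47], [44], [47, 44], [39, 45]]

/-- Some nodes. -/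
def nodes0 : List Node := [
  ⟨[], [], .one⟩,
  ⟨[47], [47], .leaf 0 [[0], [0], [0], [1]] 0 [.wd []]⟩,
  ⟨[47], [], .split 47 0 1⟩,
  ⟨[46], [46], .leaf 0 [[0], [0], [1], [0]] 0 [.wd [3]]⟩,
  ⟨[46, 47], [46], .kill 24 47 3 0⟩,
  ⟨[46, 47], [], .split 46 2 4⟩,
  ⟨[45], [45], .leaf 0 [[0], [0], [-1], [0]] 0 [.wd [3, 2]]⟩,
  ⟨[45, 47], [45], .kill 26 47 6 0⟩,
  ⟨[45, 46, 47], [45], .kill 25 46 7 0⟩,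
  ⟨[45, 46, 47], [], .split 45 5 8⟩,
  ⟨[44], [44], .leaf 0 [[1], [0], [0], [0]] 1 [.wd []]⟩,
  ⟨[44, 47], [44, 47], .leaf 0 [[1, 0], [0, 0], [0, 0], [0, 1]] 2 [.wd []]⟩,
  ⟨[44, 47], [44], .split 47 10 11⟩,
  ⟨[44, 46], [44, 46], .leaf 0 [[1, 0], [0, 0], [0, 1], [0, 0]] 2 [.wd [3]]⟩,
  ⟨[44, 46, 47], [44, 46], .kill 24 47 13 0⟩,
  ⟨[44, 46, 47], [44], .split 46 12 14⟩,
  ⟨[44, 45], [44, 45], .leaf 0 [[1, 0], [0, 0], [0, -1], [0, 0]] 2 [.wd [3, 2]]⟩,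
  ⟨[44, 45, 47], [44, 45], .kill 26 47 16 0⟩,
  ⟨[44, 45, 46, 47], [44, 45], .kill 25 46 17 0⟩,
  ⟨[44, 45, 46, 47], [44], .split 45 15 18⟩,
  ⟨[44, 45, 46, 47], [], .split 44 9 19⟩,
  ⟨[43], [43], .leaf 0 [[0], [0], [1], [0]] 0 [.wd [3, 2, 1]]⟩,
  ⟨[43, 45], [43, 45], .leaf 1 [[1, 1], [0, 1], [0, 0], [0, 0]] 2 [.cj 27, .wd [3, 2, 1]]⟩,
  ⟨[43, 45], [43], .split 45 21 22⟩,
  ⟨[43, 45, 47], [43], .kill 31 47 23 0⟩,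
  ⟨[43, 45, 46, 47], [43], .kill 30 46 24 0⟩,
  ⟨[43, 44, 45, 46, 47], [43], .kill 27 44 25 0⟩,
  ⟨[43, 44, 45, 46, 47], [], .split 43 20 26⟩,
  ⟨[42], [42], .leaf 0 [[0], [0], [-1], [0]] 0 [.wd [3, 2, 1, 2]]⟩,
  ⟨[42, 46], [42, 46], .leaf 1 [[1, 1], [0, 0], [0, 2], [0, 0]] 2 [.cj 28, .wd [3, 2, 1, 2]]⟩,
  ⟨[42, 46], [42], .split 46 28 29⟩,
  ⟨[42, 46, 47], [42], .kill 32 47 30 0⟩,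
  ⟨[42, 45, 46, 47], [42], .kill 30 45 31 0⟩,
  ⟨[42, 44, 45, 46, 47], [42], .kill 28 44 32 0⟩,
  ⟨[42, 43, 44, 45, 46, 47], [42], .kill 25 43 33 0⟩,
  ⟨[42, 43, 44, 45, 46, 47], [], .split 42 27 34⟩,
  ⟨[41], [41], .leaf 0 [[0], [0], [0], [-1]] 0 [.wd [3, 2, 1, 2, 3]]⟩,
  ⟨[41, 47], [41, 47], .leaf 1 [[1, 1], [0, 0], [0, 0], [0, 2]] 2 [.cj 29, .wd [3, 2, 1, 2, 3]]⟩,
  ⟨[41, 47], [41], .split 47 36 37⟩,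
  ⟨[41, 46, 47], [41], .kill 32 46 38 0⟩,
  ⟨[41, 45, 46, 47], [41], .kill 31 45 39 0⟩,
  ⟨[41, 44, 45, 46, 47], [41], .kill 29 44 40 0⟩,
  ⟨[41, 43, 44, 45, 46, 47], [41], .kill 26 43 41 0⟩,
  ⟨[41, 42, 43, 44, 45, 46, 47], [41], .kill 24 42 42 0⟩,
  ⟨[41, 42, 43, 44, 45, 46, 47], [], .split 41 35 43⟩,
  ⟨[40], [40], .leaf 0 [[-1], [0], [0], [0]] 1 [.wd [0]]⟩,
  ⟨[40, 47], [40, 47], .leaf 0 [[-1, 0], [0, 0], [0, 0], [0, 1]] 2 [.wd [0]]⟩,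
  ⟨[40, 47], [40], .split 47 45 46⟩,
  ⟨[40, 46], [40, 46], .leaf 0 [[-1, 0], [0, 0], [0, 1], [0, 0]] 2 [.wd [0, 3]]⟩,
  ⟨[40, 46, 47], [40, 46], .kill 24 47 48 0⟩,
  ⟨[40, 46, 47], [40], .split 46 47 49⟩,
  ⟨[40, 45], [40, 45], .leaf 0 [[-1, 0], [0, 0], [0, -1], [0, 0]] 2 [.wd [0, 3, 2]]⟩,
  ⟨[40, 45, 47], [40, 45], .kill 26 47 51 0⟩,
  ⟨[40, 45, 46, 47], [40, 45], .kill 25 46 52 0⟩,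
  ⟨[40, 45, 46, 47], [40], .split 45 50 53⟩,
  ⟨[40, 43], [40, 43], .leaf 0 [[-1, 0], [0, 0], [2, 1], [0, 0]] 3 [.wd [1]]⟩,
  ⟨[40, 43, 45], [40, 43, 45], .leaf 1 [[0, 1, 1], [2, 1, 1], [4, 2, 0], [0, 0, 0]] 3 [.cj 33, .cj 27, .wd [1]]⟩,
  ⟨[40, 43, 45], [40, 43], .split 45 55 56⟩,
  ⟨[40, 43, 45, 47], [40, 43], .kill 31 47 57 0⟩,
  ⟨[40, 43, 45, 46, 47], [40, 43], .kill 30 46 58 0⟩,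
  ⟨[40, 43, 45, 46, 47], [40], .split 43 54 59⟩,
  ⟨[40, 42], [40, 42], .leaf 0 [[-1, 0], [0, 0], [-2, -1], [0, 0]] 3 [.wd [1, 2]]⟩,
  ⟨[40, 42, 46], [40, 42, 46], .leaf 1 [[0, 1, 1], [2, 1, 1], [0, 0, 2], [0, 0, 0]] 3 [.cj 33, .cj 28, .wd [1, 2]]⟩,
  ⟨[40, 42, 46], [40, 42], .split 46 61 62⟩,
  ⟨[40, 42, 46, 47], [40, 42], .kill 32 47 63 0⟩,
  ⟨[40, 42, 45, 46, 47], [40, 42], .kill 30 45 64 0⟩,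
  ⟨[40, 42, 43, 45, 46, 47], [40, 42], .kill 25 43 65 0⟩,
  ⟨[40, 42, 43, 45, 46, 47], [40], .split 42 60 66⟩,
  ⟨[40, 41], [40, 41], .leaf 0 [[-1, 0], [0, 0], [0, 0], [-2, -1]] 3 [.wd [1, 2, 3]]⟩,
  ⟨[40, 41, 47], [40, 41, 47], .leaf 1 [[0, 1, 1], [2, 1, 1], [0, 0, 0], [0, 0, 2]] 3 [.cj 33, .cj 29, .wd [1, 2, 3]]⟩,
  ⟨[40, 41, 47], [40, 41], .split 47 68 69⟩,
  ⟨[40, 41, 46, 47], [40, 41], .kill 32 46 70 0⟩,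
  ⟨[40, 41, 45, 46, 47], [40, 41], .kill 31 45 71 0⟩,
  ⟨[40, 41, 43, 45, 46, 47], [40, 41], .kill 26 43 72 0⟩,
  ⟨[40, 41, 42, 43, 45, 46, 47], [40, 41], .kill 24 42 73 0⟩,
  ⟨[40, 41, 42, 43, 45, 46, 47], [40], .split 41 67 74⟩,
  ⟨[40, 41, 42, 43, 44, 45, 46, 47], [40], .kill 33 44 75 0⟩,
  ⟨[40, 41, 42, 43, 44, 45, 46, 47], [], .split 40 44 76⟩,
  ⟨[39], [39], .leaf 0 [[0], [-1], [0], [0]] 1 [.wd [0, 1]]⟩,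
  ⟨[39, 47], [39, 47], .leaf 0 [[0, 0], [-1, 0], [0, 0], [0, 1]] 2 [.wd [0, 1]]⟩,
  ⟨[39, 47], [39], .split 47 78 79⟩,
  ⟨[39, 46], [39, 46], .leaf 0 [[0, 0], [-1, 1], [0, 1], [0, 0]] 2 [.wd [0, 1, 3]]⟩,
  ⟨[39, 46, 47], [39, 46], .kill 24 47 81 0⟩,
  ⟨[39, 46, 47], [39], .split 46 80 82⟩,
  ⟨[39, 45], [39, 45], .leaf 0 [[0, 0], [1, 1], [2, 1], [0, 0]] 3 [.wd []]⟩,
  ⟨[39, 45, 47], [39, 45], .kill 26 47 84 0⟩,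
  ⟨[39, 45, 46, 47], [39, 45], .kill 25 46 85 0⟩,
  ⟨[39, 45, 46, 47], [39], .split 45 83 86⟩,
  ⟨[39, 43], [39, 43], .leaf 0 [[0, 0], [1, -1], [2, -1], [0, 0]] 2 [.wd [0, 3, 2, 1]]⟩,
  ⟨[39, 43, 45], [39, 43, 45], .leaf 1 [[0, 1, 1], [2, 0, 2], [4, 0, 2], [0, 0, 0]] 3 [.wd [1], .cj 33, .cj 27, .wd [1]]⟩,
  ⟨[39, 43, 45], [39, 43], .split 45 88 89⟩,
  ⟨[39, 43, 45, 47], [39, 43], .kill 31 47 90 0⟩,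
  ⟨[39, 43, 45, 46, 47], [39, 43], .kill 30 46 91 0⟩,
  ⟨[39, 43, 45, 46, 47], [39], .split 43 87 92⟩,
  ⟨[39, 42], [39, 42], .leaf 0 [[0, 0], [-1, -1], [0, -1], [0, 0]] 3 [.wd [1, 2, 1]]⟩,
  ⟨[39, 42, 46], [39, 42, 46], .leaf 1 [[0, 1, 1], [-2, 0, 2], [0, 0, 2], [0, 0, 0]] 3 [.cj 34, .cj 28, .wd [1, 2, 1]]⟩,
  ⟨[39, 42, 46], [39, 42], .split 46 94 95⟩,
  ⟨[39, 42, 46, 47], [39, 42], .kill 32 47 96 0⟩,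
  ⟨[39, 42, 45, 46, 47], [39, 42], .kill 30 45 97 0⟩,
  ⟨[39, 42, 43, 45, 46, 47], [39, 42], .kill 25 43 98 0⟩,
  ⟨[39, 42, 43, 45, 46, 47], [39], .split 42 93 99⟩,
  ⟨[39, 41], [39, 41], .leaf 0 [[0, 0], [-1, 0], [0, 0], [0, -1]] 3 [.wd [1, 2, 1, 3]]⟩,
  ⟨[39, 41, 47], [39, 41, 47], .leaf 1 [[0, 1, 1], [-2, 0, 0], [0, 0, 0], [0, 0, 2]] 3 [.cj 34, .cj 29, .wd [1, 2, 1, 3]]⟩,
  ⟨[39, 41, 47], [39, 41], .split 47 101 102⟩,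
  ⟨[39, 41, 46, 47], [39, 41], .kill 32 46 103 0⟩,
  ⟨[39, 41, 45, 46, 47], [39, 41], .kill 31 45 104 0⟩,
  ⟨[39, 41, 43, 45, 46, 47], [39, 41], .kill 26 43 105 0⟩,
  ⟨[39, 41, 42, 43, 45, 46, 47], [39, 41], .kill 24 42 106 0⟩,
  ⟨[39, 41, 42, 43, 45, 46, 47], [39], .split 41 100 107⟩,
  ⟨[39, 41, 42, 43, 44, 45, 46, 47], [39], .kill 34 44 108 0⟩,
  ⟨[39, 40, 41, 42, 43, 44, 45, 46, 47], [39], .kill 27 40 109 0⟩,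
  ⟨[39, 40, 41, 42, 43, 44, 45, 46, 47], [], .split 39 77 110⟩,
  ⟨[38], [38], .leaf 0 [[0], [1], [0], [0]] 1 [.wd [0, 1, 2]]⟩,
  ⟨[38, 47], [38, 47], .leaf 0 [[0, 0], [1, -1], [0, 0], [0, 1]] 2 [.wd [0, 1, 2]]⟩,
  ⟨[38, 47], [38], .split 47 112 113⟩,
  ⟨[38, 46], [38, 46], .leaf 0 [[0, 0], [1, 1], [0, 1], [0, 0]] 3 [.wd [2]]⟩,
  ⟨[38, 46, 47], [38, 46], .kill 24 47 115 0⟩,
  ⟨[38, 46, 47], [38], .split 46 114 116⟩,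
  ⟨[38, 45], [38, 45], .leaf 0 [[0, 0], [-1, 1], [-2, 1], [0, 0]] 2 [.wd [0, 1, 3, 2]]⟩,
  ⟨[38, 45, 46], [38, 45, 46], .leaf 0 [[0, 0, 0], [1, 0, 1], [2, -1, 2], [2, -1, 1]] 3 [.wd [2], .cj 25, .wd []]⟩,
  ⟨[38, 45, 46], [38, 45], .split 46 118 119⟩,
  ⟨[38, 45, 46, 47], [38, 45], .kill 26 47 120 0⟩,
  ⟨[38, 45, 46, 47], [38], .split 45 117 121⟩,
  ⟨[38, 43], [38, 43], .leaf 0 [[0, 0], [-1, -1], [-2, -1], [0, 0]] 3 [.wd [1, 2, 1, 2]]⟩,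
  ⟨[38, 43, 45], [38, 43, 45], .leaf 1 [[0, 1, 1], [-2, 0, 2], [-4, 0, 2], [0, 0, 0]] 3 [.cj 35, .cj 27, .wd [1, 2, 1, 2]]⟩,
  ⟨[38, 43, 45], [38, 43], .split 45 123 124⟩,
  ⟨[38, 43, 45, 47], [38, 43], .kill 31 47 125 0⟩,
  ⟨[38, 43, 45, 46, 47], [38, 43], .kill 30 46 126 0⟩,
  ⟨[38, 43, 45, 46, 47], [38], .split 43 122 127⟩,
  ⟨[38, 42], [38, 42], .leaf 0 [[0, 0], [1, -1], [0, -1], [0, 0]] 2 [.wd [0, 3, 2, 1, 2]]⟩,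
  ⟨[38, 42, 46], [38, 42, 46], .leaf 1 [[0, 1, 1], [2, 0, 2], [0, 0, 2], [0, 0, 0]] 3 [.wd [1, 2], .cj 33, .cj 27, .wd [1]]⟩,
  ⟨[38, 42, 46], [38, 42], .split 46 129 130⟩,
  ⟨[38, 42, 43], [38, 42, 43], .leaf 0 [[0, 0, 0], [1, -1, 0], [2, -2, 1], [2, -1, 1]] 3 [.wd [2], .cj 25, .wd [1, 2, 1]]⟩,
  ⟨[38, 42, 43, 46], [38, 42, 43, 46], .leaf 1 [[0, 1, 0, 1], [2, 0, 0, 2], [4, -2, 2, 2], [4, -2, 2, 0]] 3 [.wd [1, 2], .cj 33, .cj 27, .cj 25, .wd [1, 2]]⟩,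
  ⟨[38, 42, 43, 46], [38, 42, 43], .split 46 132 133⟩,
  ⟨[38, 42, 43, 46], [38, 42], .split 43 131 134⟩,
  ⟨[38, 42, 43, 46, 47], [38, 42], .kill 32 47 135 0⟩,
  ⟨[38, 42, 43, 45, 46, 47], [38, 42], .kill 30 45 136 0⟩,
  ⟨[38, 42, 43, 45, 46, 47], [38], .split 42 128 137⟩,
  ⟨[38, 41], [38, 41], .leaf 0 [[0, 0], [1, 1], [0, 0], [0, -1]] 3 [.wd [1, 2, 1, 3, 2]]⟩,
  ⟨[38, 41, 47], [38, 41, 47], .leaf 1 [[0, 1, 1], [2, 0, -2], [0, 0, 0], [0, 0, 2]] 3 [.cj 35, .cj 29, .wd [1, 2, 1, 3, 2]]⟩,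
  ⟨[38, 41, 47], [38, 41], .split 47 139 140⟩,
  ⟨[38, 41, 46, 47], [38, 41], .kill 32 46 141 0⟩,
  ⟨[38, 41, 45, 46, 47], [38, 41], .kill 31 45 142 0⟩,
  ⟨[38, 41, 43, 45, 46, 47], [38, 41], .kill 26 43 143 0⟩,
  ⟨[38, 41, 42, 43, 45, 46, 47], [38, 41], .kill 24 42 144 0⟩,
  ⟨[38, 41, 42, 43, 45, 46, 47], [38], .split 41 138 145⟩,
  ⟨[38, 41, 42, 43, 44, 45, 46, 47], [38], .kill 35 44 146 0⟩,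
  ⟨[38, 40, 41, 42, 43, 44, 45, 46, 47], [38], .kill 28 40 147 0⟩,
  ⟨[38, 39, 40, 41, 42, 43, 44, 45, 46, 47], [38], .kill 25 39 148 0⟩,
  ⟨[38, 39, 40, 41, 42, 43, 44, 45, 46, 47], [], .split 38 111 149⟩,
  ⟨[37], [37], .leaf 0 [[0], [1], [0], [0]] 1 [.wd [0, 1, 2, 3]]⟩,
  ⟨[37, 47], [37, 47], .leaf 0 [[0, 0], [1, 1], [0, 0], [0, 1]] 3 [.wd [2, 3]]⟩,
  ⟨[37, 47], [37], .split 47 151 152⟩,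
  ⟨[37, 46], [37, 46], .leaf 0 [[0, 0], [1, 0], [0, 1], [0, 0]] 2 [.wd [0, 1, 2, 3]]⟩,
  ⟨[37, 46, 47], [37, 46, 47], .leaf 0 [[0, 0, 0], [1, 0, 1], [0, 1, 1], [0, 0, 1]] 3 [.wd [3], .cj 24, .wd [2]]⟩,
  ⟨[37, 46, 47], [37, 46], .split 47 154 155⟩,
  ⟨[37, 46, 47], [37], .split 46 153 156⟩,
  ⟨[37, 45], [37, 45], .leaf 0 [[0, 0], [1, 0], [2, -1], [0, 0]] 2 [.wd [0, 1, 2, 3, 2]]⟩,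
  ⟨[37, 45, 47], [37, 45, 47], .leaf 0 [[0, 0, 0], [1, 0, 1], [2, -1, 2], [0, 0, 1]] 3 [.wd [3, 2], .cj 24, .wd [2]]⟩,
  ⟨[37, 45, 47], [37, 45], .split 47 158 159⟩,
  ⟨[37, 45, 46, 47], [37, 45], .kill 25 46 160 0⟩,
  ⟨[37, 45, 46, 47], [37], .split 45 157 161⟩,
  ⟨[37, 43], [37, 43], .leaf 0 [[0, 0], [1, 0], [2, 1], [0, 0]] 3 [.wd [1, 2, 1, 2, 3]]⟩,
  ⟨[37, 43, 45], [37, 43, 45], .leaf 1 [[0, 1, 1], [2, 0, 0], [4, 0, -2], [0, 0, 0]] 3 [.cj 36, .cj 27, .wd [1, 2, 1, 2, 3]]⟩,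
  ⟨[37, 43, 45], [37, 43], .split 45 163 164⟩,
  ⟨[37, 43, 45, 47], [37, 43], .kill 31 47 165 0⟩,
  ⟨[37, 43, 45, 46, 47], [37, 43], .kill 30 46 166 0⟩,
  ⟨[37, 43, 45, 46, 47], [37], .split 43 162 167⟩,
  ⟨[37, 42], [37, 42], .leaf 0 [[0, 0], [1, 0], [0, -1], [0, 0]] 3 [.wd [1, 2, 1, 2, 3, 2]]⟩,
  ⟨[37, 42, 46], [37, 42, 46], .leaf 1 [[0, 1, 1], [2, 0, 0], [0, 0, 2], [0, 0, 0]] 3 [.cj 36, .cj 28, .wd [1, 2, 1, 2, 3, 2]]⟩,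
  ⟨[37, 42, 46], [37, 42], .split 46 169 170⟩,
  ⟨[37, 42, 46, 47], [37, 42], .kill 32 47 171 0⟩,
  ⟨[37, 42, 45, 46, 47], [37, 42], .kill 30 45 172 0⟩,
  ⟨[37, 42, 43, 45, 46, 47], [37, 42], .kill 25 43 173 0⟩,
  ⟨[37, 42, 43, 45, 46, 47], [37], .split 42 168 174⟩,
  ⟨[37, 41], [37, 41], .leaf 0 [[0, 0], [1, -1], [0, 0], [0, -1]] 2 [.wd [0, 3, 2, 1, 2, 3]]⟩,
  ⟨[37, 41, 47], [37, 41, 47], .leaf 1 [[0, 1, 1], [2, 0, 2], [0, 0, 0], [0, 0, 2]] 3 [.wd [1, 2, 3], .cj 33, .cj 27, .wd [1]]⟩,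
  ⟨[37, 41, 47], [37, 41], .split 47 176 177⟩,
  ⟨[37, 41, 43], [37, 41, 43], .leaf 0 [[0, 0, 0], [1, -1, 0], [2, -2, 1], [0, -1, 0]] 3 [.wd [3, 2], .cj 24, .wd [1, 2, 1, 3, 2]]⟩,
  ⟨[37, 41, 43, 47], [37, 41, 43, 47], .leaf 1 [[0, 1, 0, 1], [2, 0, 0, 2], [4, -2, 2, 2], [0, 0, 0, 2]] 3 [.wd [1, 2, 3], .cj 33, .cj 27, .cj 25, .wd [1, 2]]⟩,
  ⟨[37, 41, 43, 47], [37, 41, 43], .split 47 179 180⟩,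
  ⟨[37, 41, 43, 47], [37, 41], .split 43 178 181⟩,
  ⟨[37, 41, 42], [37, 41, 42], .leaf 0 [[0, 0, 0], [1, -1, 0], [0, -1, -1], [0, -1, 0]] 3 [.wd [3], .cj 24, .wd [1, 2, 1, 3, 2]]⟩,
  ⟨[37, 41, 42, 47], [37, 41, 42, 47], .leaf 1 [[0, 1, 0, 1], [2, 0, 0, 2], [0, 2, -2, 4], [0, 0, 0, 2]] 3 [.wd [1, 2, 3], .cj 33, .cj 27, .cj 26, .wd [1, 2, 3]]⟩,
  ⟨[37, 41, 42, 47], [37, 41, 42], .split 47 183 184⟩,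
  ⟨[37, 41, 42, 43, 47], [37, 41, 42], .kill 25 43 185 0⟩,
  ⟨[37, 41, 42, 43, 47], [37, 41], .split 42 182 186⟩,
  ⟨[37, 41, 42, 43, 46, 47], [37, 41], .kill 32 46 187 0⟩,
  ⟨[37, 41, 42, 43, 45, 46, 47], [37, 41], .kill 31 45 188 0⟩,
  ⟨[37, 41, 42, 43, 45, 46, 47], [37], .split 41 175 189⟩,
  ⟨[37, 41, 42, 43, 44, 45, 46, 47], [37], .kill 36 44 190 0⟩,
  ⟨[37, 40, 41, 42, 43, 44, 45, 46, 47], [37], .kill 29 40 191 0⟩,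
  ⟨[37, 39, 40, 41, 42, 43, 44, 45, 46, 47], [37], .kill 26 39 192 0⟩,
  ⟨[37, 38, 39, 40, 41, 42, 43, 44, 45, 46, 47], [37], .kill 24 38 193 0⟩,
  ⟨[37, 38, 39, 40, 41, 42, 43, 44, 45, 46, 47], [], .split 37 150 194⟩,
  ⟨[36], [36], .leaf 0 [[1], [0], [0], [0]] 1 [.wd [0, 1, 2, 1]]⟩,
  ⟨[36, 47], [36, 47], .leaf 0 [[1, -1], [0, 0], [0, 0], [0, 1]] 2 [.wd [0, 1, 2, 1]]⟩,
  ⟨[36, 47], [36], .split 47 196 197⟩,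
  ⟨[36, 46], [36, 46], .leaf 0 [[1, 0], [0, 0], [0, 1], [0, 0]] 3 [.wd [2, 1]]⟩]

/-- Some nodes. -/
def nodes1 : List Node := [
  ⟨[36, 46, 47], [36, 46], .kill 24 47 199 0⟩,
  ⟨[36, 46, 47], [36], .split 46 198 200⟩,
  ⟨[36, 45], [36, 45], .leaf 0 [[1, 0], [0, 0], [0, -1], [0, 0]] 3 [.wd [2, 1, 2]]⟩,
  ⟨[36, 45, 47], [36, 45], .kill 26 47 202 0⟩,
  ⟨[36, 45, 46, 47], [36, 45], .kill 25 46 203 0⟩,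
  ⟨[36, 45, 46, 47], [36], .split 45 201 204⟩,
  ⟨[36, 43], [36, 43], .leaf 0 [[1, 0], [0, 0], [-2, 1], [0, 0]] 2 [.wd [0, 1, 3, 2, 1]]⟩,
  ⟨[36, 43, 46], [36, 43, 46], .leaf 0 [[-1, 1, -1], [0, 0, 0], [2, -1, 2], [2, -1, 1]] 3 [.wd [2, 1], .cj 25, .wd []]⟩,
  ⟨[36, 43, 46], [36, 43], .split 46 206 207⟩,
  ⟨[36, 43, 45], [36, 43, 45], .leaf 1 [[0, 1, 1], [-2, 1, 1], [-4, 2, 0], [0, 0, 0]] 3 [.wd [1], .cj 35, .cj 27, .wd [1, 2, 1, 2]]⟩,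
  ⟨[36, 43, 45, 46], [36, 43, 45], .kill 25 46 209 0⟩,
  ⟨[36, 43, 45, 46], [36, 43], .split 45 208 210⟩,
  ⟨[36, 43, 45, 46, 47], [36, 43], .kill 31 47 211 0⟩,
  ⟨[36, 43, 45, 46, 47], [36], .split 43 205 212⟩,
  ⟨[36, 42], [36, 42], .leaf 0 [[1, 0], [0, 0], [2, -1], [0, 0]] 2 [.wd [0, 1, 3, 2, 1, 2]]⟩,
  ⟨[36, 42, 46], [36, 42, 46], .leaf 1 [[0, 1, 1], [-2, 1, 1], [0, 0, 2], [0, 0, 0]] 3 [.wd [1, 2], .cj 35, .cj 27, .wd [1, 2, 1, 2]]⟩,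
  ⟨[36, 42, 46], [36, 42], .split 46 214 215⟩,
  ⟨[36, 42, 45], [36, 42, 45], .leaf 0 [[-1, 1, -1], [0, 0, 0], [0, 0, -1], [2, -1, 1]] 3 [.wd [2, 1], .cj 25, .wd [1, 2, 1]]⟩,
  ⟨[36, 42, 45, 46], [36, 42, 45, 46], .leaf 1 [[0, 1, 0, 1], [2, -1, 2, 1], [4, -2, 2, 2], [4, -2, 2, 0]] 3 [.wd [1, 2], .cj 35, .cj 30, .cj 27, .wd [1, 2, 1, 2]]⟩,
  ⟨[36, 42, 45, 46], [36, 42, 45], .split 46 217 218⟩,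
  ⟨[36, 42, 45, 46], [36, 42], .split 45 216 219⟩,
  ⟨[36, 42, 45, 46, 47], [36, 42], .kill 32 47 220 0⟩,
  ⟨[36, 42, 43, 45, 46, 47], [36, 42], .kill 25 43 221 0⟩,
  ⟨[36, 42, 43, 45, 46, 47], [36], .split 42 213 222⟩,
  ⟨[36, 41], [36, 41], .leaf 0 [[0, 0], [-1, -1], [0, 0], [0, -1]] 3 [.wd [1, 2, 1, 3, 2, 1]]⟩,
  ⟨[36, 41, 47], [36, 41, 47], .leaf 1 [[0, 1, 1], [-2, 1, 3], [0, 0, 0], [0, 0, 2]] 3 [.cj 37, .cj 29, .wd [1, 2, 1, 3, 2, 1]]⟩,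
  ⟨[36, 41, 47], [36, 41], .split 47 224 225⟩,
  ⟨[36, 41, 46, 47], [36, 41], .kill 32 46 226 0⟩,
  ⟨[36, 41, 45, 46, 47], [36, 41], .kill 31 45 227 0⟩,
  ⟨[36, 41, 43, 45, 46, 47], [36, 41], .kill 26 43 228 0⟩,
  ⟨[36, 41, 42, 43, 45, 46, 47], [36, 41], .kill 24 42 229 0⟩,
  ⟨[36, 41, 42, 43, 45, 46, 47], [36], .split 41 223 230⟩,
  ⟨[36, 41, 42, 43, 44, 45, 46, 47], [36], .kill 37 44 231 0⟩,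
  ⟨[36, 40, 41, 42, 43, 44, 45, 46, 47], [36], .kill 30 40 232 0⟩,
  ⟨[36, 39, 40, 41, 42, 43, 44, 45, 46, 47], [36], .kill 28 39 233 0⟩,
  ⟨[36, 38, 39, 40, 41, 42, 43, 44, 45, 46, 47], [36], .kill 27 38 234 0⟩,
  ⟨[36, 37, 38, 39, 40, 41, 42, 43, 44, 45, 46, 47], [36], .zero 44 37 235⟩,
  ⟨[36, 37, 38, 39, 40, 41, 42, 43, 44, 45, 46, 47], [], .split 36 195 236⟩,
  ⟨[35], [35], .leaf 0 [[1], [0], [0], [0]] 1 [.wd [0, 1, 2, 1, 3]]⟩,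
  ⟨[35, 47], [35, 47], .leaf 0 [[1, 1], [0, 0], [0, 0], [0, 1]] 3 [.wd [2, 1, 3]]⟩,
  ⟨[35, 47], [35], .split 47 238 239⟩,
  ⟨[35, 46], [35, 46], .leaf 0 [[1, -1], [0, 0], [0, 1], [0, 0]] 2 [.wd [0, 1, 2, 1, 3]]⟩,
  ⟨[35, 46, 47], [35, 46, 47], .leaf 0 [[1, -1, 0], [0, 0, 0], [0, 1, 1], [0, 0, 1]] 3 [.wd [3], .cj 24, .wd [2, 1]]⟩,
  ⟨[35, 46, 47], [35, 46], .split 47 241 242⟩,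
  ⟨[35, 46, 47], [35], .split 46 240 243⟩,
  ⟨[35, 45], [35, 45], .leaf 0 [[1, 1], [0, 0], [0, -1], [0, 0]] 3 [.wd [2, 1, 2, 3]]⟩,
  ⟨[35, 45, 47], [35, 45], .kill 26 47 245 0⟩,
  ⟨[35, 45, 46, 47], [35, 45], .kill 25 46 246 0⟩,
  ⟨[35, 45, 46, 47], [35], .split 45 244 247⟩,
  ⟨[35, 43], [35, 43], .leaf 0 [[-1, 1], [0, 0], [2, -1], [0, 0]] 2 [.wd [0, 1, 2, 3, 2, 1]]⟩,
  ⟨[35, 43, 47], [35, 43, 47], .leaf 0 [[-1, 1, -1], [0, 0, 0], [2, -1, 2], [0, 0, 1]] 3 [.wd [3, 2, 1], .cj 24, .wd [2]]⟩,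
  ⟨[35, 43, 47], [35, 43], .split 47 249 250⟩,
  ⟨[35, 43, 45], [35, 43, 45], .leaf 1 [[0, 1, 1], [2, -1, 1], [4, -2, 0], [0, 0, 0]] 3 [.wd [1], .cj 36, .cj 27, .wd [1, 2, 1, 2, 3]]⟩,
  ⟨[35, 43, 45, 47], [35, 43, 45], .kill 26 47 252 0⟩,
  ⟨[35, 43, 45, 47], [35, 43], .split 45 251 253⟩,
  ⟨[35, 43, 45, 46, 47], [35, 43], .kill 30 46 254 0⟩,
  ⟨[35, 43, 45, 46, 47], [35], .split 43 248 255⟩,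
  ⟨[35, 42], [35, 42], .leaf 0 [[0, 0], [-1, -1], [0, -1], [0, 0]] 3 [.wd [1, 2, 1, 2, 3, 2, 1]]⟩,
  ⟨[35, 42, 46], [35, 42, 46], .leaf 1 [[0, 1, 1], [-2, 1, 3], [0, 0, 2], [0, 0, 0]] 3 [.cj 38, .cj 28, .wd [1, 2, 1, 2, 3, 2, 1]]⟩,
  ⟨[35, 42, 46], [35, 42], .split 46 257 258⟩,
  ⟨[35, 42, 46, 47], [35, 42], .kill 32 47 259 0⟩,
  ⟨[35, 42, 45, 46, 47], [35, 42], .kill 30 45 260 0⟩,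
  ⟨[35, 42, 43, 45, 46, 47], [35, 42], .kill 25 43 261 0⟩,
  ⟨[35, 42, 43, 45, 46, 47], [35], .split 42 256 262⟩,
  ⟨[35, 41], [35, 41], .leaf 0 [[-1, 1], [0, 0], [0, 0], [-2, 1]] 2 [.wd [0, 1, 3, 2, 1, 2, 3]]⟩,
  ⟨[35, 41, 47], [35, 41, 47], .leaf 1 [[0, 1, 1], [-2, 1, -1], [0, 0, 0], [0, 0, 2]] 3 [.wd [1, 2, 3], .cj 35, .cj 27, .wd [1, 2, 1, 2]]⟩,
  ⟨[35, 41, 47], [35, 41], .split 47 264 265⟩,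
  ⟨[35, 41, 45], [35, 41, 45], .leaf 0 [[-1, 1, -1], [0, 0, 0], [0, 0, -1], [-2, 1, -2]] 3 [.wd [3, 2, 1], .cj 24, .wd [1, 2, 1, 3, 2]]⟩,
  ⟨[35, 41, 45, 47], [35, 41, 45, 47], .leaf 1 [[0, 1, 0, 1], [2, -1, 2, 1], [4, -2, 2, 2], [0, 0, 0, 2]] 3 [.wd [1, 2, 3], .cj 35, .cj 30, .cj 27, .wd [1, 2, 1, 2]]⟩,
  ⟨[35, 41, 45, 47], [35, 41, 45], .split 47 267 268⟩,
  ⟨[35, 41, 45, 47], [35, 41], .split 45 266 269⟩,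
  ⟨[35, 41, 42], [35, 41, 42], .leaf 0 [[0, 0, 0], [-1, 0, -1], [0, -1, -1], [0, -1, 0]] 3 [.wd [3], .cj 24, .wd [1, 2, 1, 3, 2, 1]]⟩,
  ⟨[35, 41, 42, 47], [35, 41, 42, 47], .leaf 1 [[0, 1, 0, 1], [-2, 3, -2, 3], [0, 2, -2, 4], [0, 0, 0, 2]] 3 [.wd [1, 2, 3], .cj 35, .cj 27, .cj 26, .wd [1, 2, 1, 3, 2]]⟩,
  ⟨[35, 41, 42, 47], [35, 41, 42], .split 47 271 272⟩,
  ⟨[35, 41, 42, 45, 47], [35, 41, 42], .kill 30 45 273 0⟩,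
  ⟨[35, 41, 42, 45, 47], [35, 41], .split 42 270 274⟩,
  ⟨[35, 41, 42, 45, 46, 47], [35, 41], .kill 32 46 275 0⟩,
  ⟨[35, 41, 42, 43, 45, 46, 47], [35, 41], .kill 26 43 276 0⟩,
  ⟨[35, 41, 42, 43, 45, 46, 47], [35], .split 41 263 277⟩,
  ⟨[35, 41, 42, 43, 44, 45, 46, 47], [35], .kill 38 44 278 0⟩,
  ⟨[35, 40, 41, 42, 43, 44, 45, 46, 47], [35], .kill 31 40 279 0⟩,
  ⟨[35, 39, 40, 41, 42, 43, 44, 45, 46, 47], [35], .kill 29 39 280 0⟩,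
  ⟨[35, 37, 39, 40, 41, 42, 43, 44, 45, 46, 47], [35], .kill 27 37 281 0⟩,
  ⟨[35, 37, 38, 39, 40, 41, 42, 43, 44, 45, 46, 47], [35], .zero 44 38 282⟩,
  ⟨[35, 36, 37, 38, 39, 40, 41, 42, 43, 44, 45, 46, 47], [35], .kill 24 36 283 0⟩,
  ⟨[35, 36, 37, 38, 39, 40, 41, 42, 43, 44, 45, 46, 47], [], .split 35 237 284⟩,
  ⟨[34], [34], .leaf 0 [[1], [0], [0], [0]] 1 [.wd [0, 1, 2, 1, 3, 2]]⟩,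
  ⟨[34, 47], [34, 47], .leaf 0 [[1, 0], [0, 0], [0, 0], [0, 1]] 3 [.wd [2, 1, 3, 2]]⟩,
  ⟨[34, 47], [34], .split 47 286 287⟩,
  ⟨[34, 46], [34, 46], .leaf 0 [[1, 1], [0, 0], [0, 1], [0, 0]] 3 [.wd [2, 1, 2, 3, 2]]⟩,
  ⟨[34, 46, 47], [34, 46], .kill 24 47 289 0⟩,
  ⟨[34, 46, 47], [34], .split 46 288 290⟩,
  ⟨[34, 45], [34, 45], .leaf 0 [[1, -1], [0, 0], [0, -1], [0, 0]] 2 [.wd [0, 1, 2, 1, 3, 2]]⟩,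
  ⟨[34, 45, 47], [34, 45, 47], .leaf 0 [[1, -1, 0], [0, 0, 0], [0, -1, 0], [0, 0, 1]] 3 [.wd [3, 2], .cj 24, .wd [2, 1]]⟩,
  ⟨[34, 45, 47], [34, 45], .split 47 292 293⟩,
  ⟨[34, 45, 46], [34, 45, 46], .leaf 0 [[1, -1, 0], [0, 0, 0], [0, -1, 0], [0, -1, -1]] 3 [.wd [2], .cj 25, .wd [2, 1, 2, 3]]⟩,
  ⟨[34, 45, 46, 47], [34, 45, 46], .kill 24 47 295 0⟩,
  ⟨[34, 45, 46, 47], [34, 45], .split 46 294 296⟩,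
  ⟨[34, 45, 46, 47], [34], .split 45 291 297⟩,
  ⟨[34, 43], [34, 43], .leaf 0 [[0, 0], [-1, -1], [-2, -1], [0, 0]] 3 [.wd [1, 2, 1, 2, 3, 2, 1, 2]]⟩,
  ⟨[34, 43, 45], [34, 43, 45], .leaf 1 [[0, 1, 1], [-2, 1, 3], [-4, 2, 4], [0, 0, 0]] 3 [.cj 39, .cj 27, .wd [1, 2, 1, 2, 3, 2, 1, 2]]⟩,
  ⟨[34, 43, 45], [34, 43], .split 45 299 300⟩,
  ⟨[34, 43, 45, 47], [34, 43], .kill 31 47 301 0⟩,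
  ⟨[34, 43, 45, 46, 47], [34, 43], .kill 30 46 302 0⟩,
  ⟨[34, 43, 45, 46, 47], [34], .split 43 298 303⟩,
  ⟨[34, 42], [34, 42], .leaf 0 [[-1, 1], [0, 0], [-2, 1], [0, 0]] 2 [.wd [0, 1, 2, 3, 2, 1, 2]]⟩,
  ⟨[34, 42, 47], [34, 42, 47], .leaf 0 [[-1, 1, -1], [0, 0, 0], [-2, 1, -1], [0, 0, 1]] 3 [.wd [3, 2, 1, 2], .cj 24, .wd [2]]⟩,
  ⟨[34, 42, 47], [34, 42], .split 47 305 306⟩,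
  ⟨[34, 42, 46], [34, 42, 46], .leaf 1 [[0, 1, 1], [2, -1, 1], [0, 0, 2], [0, 0, 0]] 3 [.wd [1, 2], .cj 36, .cj 27, .wd [1, 2, 1, 2, 3]]⟩,
  ⟨[34, 42, 46, 47], [34, 42, 46], .kill 24 47 308 0⟩,
  ⟨[34, 42, 46, 47], [34, 42], .split 46 307 309⟩,
  ⟨[34, 42, 43], [34, 42, 43], .leaf 0 [[0, 0, 0], [-1, 0, -1], [-2, 0, -1], [-2, 1, -1]] 3 [.wd [2], .cj 25, .wd [1, 2, 1, 2, 3, 2, 1]]⟩,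
  ⟨[34, 42, 43, 46], [34, 42, 43, 46], .leaf 1 [[0, 1, 0, 1], [-2, 3, -2, 3], [-4, 4, -2, 4], [-4, 4, -2, 2]] 3 [.wd [1, 2], .cj 36, .cj 27, .cj 25, .wd [1, 2, 1, 2, 3, 2]]⟩,
  ⟨[34, 42, 43, 46], [34, 42, 43], .split 46 311 312⟩,
  ⟨[34, 42, 43, 46, 47], [34, 42, 43], .kill 31 47 313 0⟩,
  ⟨[34, 42, 43, 46, 47], [34, 42], .split 43 310 314⟩,
  ⟨[34, 42, 43, 45, 46, 47], [34, 42], .kill 30 45 315 0⟩,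
  ⟨[34, 42, 43, 45, 46, 47], [34], .split 42 304 316⟩,
  ⟨[34, 41], [34, 41], .leaf 0 [[1, 0], [0, 0], [0, 0], [2, -1]] 2 [.wd [0, 1, 2, 3, 2, 1, 2, 3]]⟩,
  ⟨[34, 41, 47], [34, 41, 47], .leaf 1 [[0, 1, 1], [2, -1, -1], [0, 0, 0], [0, 0, 2]] 3 [.wd [1, 2, 3], .cj 36, .cj 27, .wd [1, 2, 1, 2, 3]]⟩,
  ⟨[34, 41, 47], [34, 41], .split 47 318 319⟩,
  ⟨[34, 41, 46], [34, 41, 46], .leaf 0 [[-1, 1, -1], [0, 0, 0], [-2, 1, -1], [-2, 1, -2]] 3 [.wd [3, 2, 1, 2], .cj 24, .wd [1, 2, 1, 3, 2]]⟩,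
  ⟨[34, 41, 46, 47], [34, 41, 46, 47], .leaf 1 [[0, 1, 0, 1], [2, -1, 2, 1], [0, 0, 2, 2], [0, 0, 0, 2]] 3 [.wd [1, 2, 3], .cj 36, .cj 31, .cj 27, .wd [1, 2, 1, 2, 3]]⟩,
  ⟨[34, 41, 46, 47], [34, 41, 46], .split 47 321 322⟩,
  ⟨[34, 41, 46, 47], [34, 41], .split 46 320 323⟩,
  ⟨[34, 41, 43], [34, 41, 43], .leaf 0 [[0, 0, 0], [-1, 0, -1], [-2, 0, -1], [0, -1, 0]] 3 [.wd [3, 2], .cj 24, .wd [1, 2, 1, 3, 2, 1]]⟩,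
  ⟨[34, 41, 43, 47], [34, 41, 43, 47], .leaf 1 [[0, 1, 0, 1], [-2, 3, -2, 3], [-4, 4, -2, 4], [0, 0, 0, 2]] 3 [.wd [1, 2, 3], .cj 36, .cj 27, .cj 25, .wd [1, 2, 1, 2, 3, 2]]⟩,
  ⟨[34, 41, 43, 47], [34, 41, 43], .split 47 325 326⟩,
  ⟨[34, 41, 43, 46, 47], [34, 41, 43], .kill 30 46 327 0⟩,
  ⟨[34, 41, 43, 46, 47], [34, 41], .split 43 324 328⟩,
  ⟨[34, 41, 43, 45, 46, 47], [34, 41], .kill 31 45 329 0⟩,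
  ⟨[34, 41, 42, 43, 45, 46, 47], [34, 41], .kill 24 42 330 0⟩,
  ⟨[34, 41, 42, 43, 45, 46, 47], [34], .split 41 317 331⟩,
  ⟨[34, 41, 42, 43, 44, 45, 46, 47], [34], .kill 39 44 332 0⟩,
  ⟨[34, 40, 41, 42, 43, 44, 45, 46, 47], [34], .kill 32 40 333 0⟩,
  ⟨[34, 38, 40, 41, 42, 43, 44, 45, 46, 47], [34], .kill 29 38 334 0⟩,
  ⟨[34, 37, 38, 40, 41, 42, 43, 44, 45, 46, 47], [34], .kill 28 37 335 0⟩,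
  ⟨[34, 37, 38, 39, 40, 41, 42, 43, 44, 45, 46, 47], [34], .zero 44 39 336⟩,
  ⟨[34, 36, 37, 38, 39, 40, 41, 42, 43, 44, 45, 46, 47], [34], .kill 26 36 337 0⟩,
  ⟨[34, 35, 36, 37, 38, 39, 40, 41, 42, 43, 44, 45, 46, 47], [34], .kill 25 35 338 0⟩,
  ⟨[34, 35, 36, 37, 38, 39, 40, 41, 42, 43, 44, 45, 46, 47], [], .split 34 285 339⟩,
  ⟨[33], [33], .leaf 0 [[0], [-1], [0], [0]] 1 [.wd [0, 1, 2, 1, 3, 2, 1]]⟩,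
  ⟨[33, 47], [33, 47], .leaf 0 [[0, 0], [-1, 0], [0, 0], [0, 1]] 3 [.wd [2, 1, 3, 2, 1]]⟩,
  ⟨[33, 47], [33], .split 47 341 342⟩,
  ⟨[33, 46], [33, 46], .leaf 0 [[0, 0], [-1, 0], [0, 1], [0, 0]] 3 [.wd [2, 1, 2, 3, 2, 1]]⟩,
  ⟨[33, 46, 47], [33, 46], .kill 24 47 344 0⟩,
  ⟨[33, 46, 47], [33], .split 46 343 345⟩,
  ⟨[33, 45], [33, 45], .leaf 0 [[0, 0], [-1, 0], [-2, -1], [0, 0]] 3 [.wd [2, 1, 2, 3, 2, 1, 2]]⟩,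
  ⟨[33, 45, 47], [33, 45], .kill 26 47 347 0⟩,
  ⟨[33, 45, 46, 47], [33, 45], .kill 25 46 348 0⟩,
  ⟨[33, 45, 46, 47], [33], .split 45 346 349⟩,
  ⟨[33, 43], [33, 43], .leaf 0 [[0, 0], [-1, 0], [-2, 1], [0, 0]] 2 [.wd [0, 1, 2, 1, 3, 2, 1]]⟩,
  ⟨[33, 43, 47], [33, 43, 47], .leaf 0 [[0, 0, 0], [-1, 0, 0], [-2, 1, 0], [0, 0, 1]] 3 [.wd [3, 2, 1], .cj 24, .wd [2, 1]]⟩,
  ⟨[33, 43, 47], [33, 43], .split 47 351 352⟩,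
  ⟨[33, 43, 46], [33, 43, 46], .leaf 0 [[0, 0, 0], [-1, 0, 0], [-2, 1, 0], [-2, 1, -1]] 3 [.wd [2, 1], .cj 25, .wd [2, 1, 2, 3]]⟩,
  ⟨[33, 43, 46, 47], [33, 43, 46], .kill 24 47 354 0⟩,
  ⟨[33, 43, 46, 47], [33, 43], .split 46 353 355⟩,
  ⟨[33, 43, 45], [33, 43, 45], .leaf 1 [[0, 1, 1], [-2, 2, 2], [-4, 4, 2], [0, 0, 0]] 3 [.wd [1], .cj 39, .cj 27, .wd [1, 2, 1, 2, 3, 2, 1, 2]]⟩,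
  ⟨[33, 43, 45, 47], [33, 43, 45], .kill 26 47 357 0⟩,
  ⟨[33, 43, 45, 46, 47], [33, 43, 45], .kill 25 46 358 0⟩,
  ⟨[33, 43, 45, 46, 47], [33, 43], .split 45 356 359⟩,
  ⟨[33, 43, 45, 46, 47], [33], .split 43 350 360⟩,
  ⟨[33, 42], [33, 42], .leaf 0 [[0, 0], [-1, 0], [0, -1], [0, 0]] 2 [.wd [0, 1, 2, 1, 3, 2, 1, 2]]⟩,
  ⟨[33, 42, 47], [33, 42, 47], .leaf 0 [[0, 0, 0], [-1, 0, 0], [0, -1, 1], [0, 0, 1]] 3 [.wd [3, 2, 1, 2], .cj 24, .wd [2, 1]]⟩,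
  ⟨[33, 42, 47], [33, 42], .split 47 362 363⟩,
  ⟨[33, 42, 46], [33, 42, 46], .leaf 1 [[0, 1, 1], [-2, 2, 2], [0, 0, 2], [0, 0, 0]] 3 [.wd [1, 2], .cj 39, .cj 27, .wd [1, 2, 1, 2, 3, 2, 1, 2]]⟩,
  ⟨[33, 42, 46, 47], [33, 42, 46], .kill 24 47 365 0⟩,
  ⟨[33, 42, 46, 47], [33, 42], .split 46 364 366⟩,
  ⟨[33, 42, 45], [33, 42, 45], .leaf 0 [[0, 0, 0], [-1, 0, 0], [-2, 0, -1], [-2, 1, -1]] 3 [.wd [2, 1], .cj 25, .wd [1, 2, 1, 2, 3, 2, 1]]⟩,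
  ⟨[33, 42, 45, 46], [33, 42, 45, 46], .leaf 1 [[0, 1, 0, 1], [-2, 2, 0, 2], [-4, 4, -2, 4], [-4, 4, -2, 2]] 3 [.wd [1, 2], .cj 39, .cj 30, .cj 27, .wd [1, 2, 1, 2, 3, 2, 1, 2]]⟩,
  ⟨[33, 42, 45, 46], [33, 42, 45], .split 46 368 369⟩,
  ⟨[33, 42, 45, 46, 47], [33, 42, 45], .kill 26 47 370 0⟩,
  ⟨[33, 42, 45, 46, 47], [33, 42], .split 45 367 371⟩,
  ⟨[33, 42, 43, 45, 46, 47], [33, 42], .kill 25 43 372 0⟩,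
  ⟨[33, 42, 43, 45, 46, 47], [33], .split 42 361 373⟩,
  ⟨[33, 41], [33, 41], .leaf 0 [[0, 0], [-1, 0], [0, 0], [0, -1]] 2 [.wd [0, 1, 2, 1, 3, 2, 1, 2, 3]]⟩,
  ⟨[33, 41, 47], [33, 41, 47], .leaf 1 [[0, 1, 1], [-2, 2, 2], [0, 0, 0], [0, 0, 2]] 3 [.wd [1, 2, 3], .cj 39, .cj 27, .wd [1, 2, 1, 2, 3, 2, 1, 2]]⟩,
  ⟨[33, 41, 47], [33, 41], .split 47 375 376⟩,
  ⟨[33, 41, 46], [33, 41, 46], .leaf 0 [[0, 0, 0], [-1, 0, 0], [0, -1, 1], [0, -1, 0]] 3 [.wd [3, 2, 1, 2], .cj 24, .wd [1, 2, 1, 3, 2, 1]]⟩,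
  ⟨[33, 41, 46, 47], [33, 41, 46, 47], .leaf 1 [[0, 1, 0, 1], [-2, 2, 0, 2], [0, 0, 2, 2], [0, 0, 0, 2]] 3 [.wd [1, 2, 3], .cj 39, .cj 31, .cj 27, .wd [1, 2, 1, 2, 3, 2, 1, 2]]⟩,
  ⟨[33, 41, 46, 47], [33, 41, 46], .split 47 378 379⟩,
  ⟨[33, 41, 46, 47], [33, 41], .split 46 377 380⟩,
  ⟨[33, 41, 45], [33, 41, 45], .leaf 0 [[0, 0, 0], [-1, 0, 0], [-2, 0, -1], [0, -1, 0]] 3 [.wd [3, 2, 1], .cj 24, .wd [1, 2, 1, 3, 2, 1]]⟩,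
  ⟨[33, 41, 45, 47], [33, 41, 45, 47], .leaf 1 [[0, 1, 0, 1], [-2, 2, 0, 2], [-4, 4, -2, 4], [0, 0, 0, 2]] 3 [.wd [1, 2, 3], .cj 39, .cj 30, .cj 27, .wd [1, 2, 1, 2, 3, 2, 1, 2]]⟩,
  ⟨[33, 41, 45, 47], [33, 41, 45], .split 47 382 383⟩,
  ⟨[33, 41, 45, 46, 47], [33, 41, 45], .kill 25 46 384 0⟩,
  ⟨[33, 41, 45, 46, 47], [33, 41], .split 45 381 385⟩,
  ⟨[33, 41, 43, 45, 46, 47], [33, 41], .kill 26 43 386 0⟩,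
  ⟨[33, 41, 42, 43, 45, 46, 47], [33, 41], .kill 24 42 387 0⟩,
  ⟨[33, 41, 42, 43, 45, 46, 47], [33], .split 41 374 388⟩,
  ⟨[33, 41, 42, 43, 44, 45, 46, 47], [33], .kill 40 44 389 0⟩,
  ⟨[33, 39, 41, 42, 43, 44, 45, 46, 47], [33], .kill 32 39 390 0⟩,
  ⟨[33, 38, 39, 41, 42, 43, 44, 45, 46, 47], [33], .kill 31 38 391 0⟩,
  ⟨[33, 37, 38, 39, 41, 42, 43, 44, 45, 46, 47], [33], .kill 30 37 392 0⟩,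
  ⟨[33, 37, 38, 39, 40, 41, 42, 43, 44, 45, 46, 47], [33], .zero 44 40 393⟩,
  ⟨[33, 36, 37, 38, 39, 40, 41, 42, 43, 44, 45, 46, 47], [33], .kill 29 36 394 0⟩,
  ⟨[33, 35, 36, 37, 38, 39, 40, 41, 42, 43, 44, 45, 46, 47], [33], .kill 28 35 395 0⟩,
  ⟨[33, 34, 35, 36, 37, 38, 39, 40, 41, 42, 43, 44, 45, 46, 47], [33], .kill 27 34 396 0⟩,
  ⟨[33, 34, 35, 36, 37, 38, 39, 40, 41, 42, 43, 44, 45, 46, 47], [], .split 33 340 397⟩,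
  ⟨[32], [32], .leaf 0 [[0], [0], [1], [0]] 0 [.wd [3, 2, 1, 0]]⟩]

/-- Some nodes. -/
def nodes2 : List Node := [
  ⟨[32, 45], [32, 45], .leaf 1 [[-1, 0], [0, 1], [0, 0], [0, 0]] 2 [.cj 34, .wd [3, 2, 1, 0]]⟩,
  ⟨[32, 45], [32], .split 45 399 400⟩,
  ⟨[32, 44], [32, 44], .leaf 0 [[0, 1], [0, 0], [1, 2], [0, 0]] 3 [.wd [1, 0]]⟩,
  ⟨[32, 44, 45], [32, 44, 45], .leaf 1 [[0, 2, 0], [1, 2, 1], [2, 4, 0], [0, 0, 0]] 3 [.wd [0], .cj 33, .cj 27, .wd [1]]⟩,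
  ⟨[32, 44, 45], [32, 44], .split 45 402 403⟩,
  ⟨[32, 44, 45], [32], .split 44 401 404⟩,
  ⟨[32, 43], [32, 43], .leaf 1 [[-1, 0], [-1, -1], [0, 0], [0, 0]] 2 [.cj 33, .wd [0, 3, 2, 1, 0]]⟩,
  ⟨[32, 43, 45], [32, 43, 45], .leaf 1 [[0, 1, 1], [1, 1, 2], [2, 2, 2], [0, 0, 0]] 3 [.cj 27, .wd [0, 1], .cj 33, .cj 27, .wd [1]]⟩,
  ⟨[32, 43, 45], [32, 43], .split 45 406 407⟩,
  ⟨[32, 43, 44, 45], [32, 43], .kill 27 44 408 0⟩,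
  ⟨[32, 43, 44, 45], [32], .split 43 405 409⟩,
  ⟨[32, 38], [32, 38], .leaf 0 [[0, 0], [1, 1], [1, 0], [0, 0]] 3 [.wd [1, 2, 1, 0, 2]]⟩,
  ⟨[32, 38, 45], [32, 38, 45], .leaf 1 [[-1, -2, 1], [0, -2, 2], [0, -4, 2], [0, 0, 0]] 3 [.cj 34, .cj 28, .wd [1, 2, 1, 0, 2]]⟩,
  ⟨[32, 38, 45], [32, 38], .split 45 411 412⟩,
  ⟨[32, 38, 43], [32, 38, 43], .leaf 1 [[-1, 0, 0], [-1, 0, -1], [0, 0, 0], [1, 2, 1]] 3 [.cj 31, .cj 33, .cj 25, .wd [1, 2, 1, 0, 2]]⟩,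
  ⟨[32, 38, 43, 45], [32, 38, 43, 45], .leaf 1 [[0, 0, 1, 1], [1, 0, 1, 2], [2, 0, 2, 2], [1, 2, 1, 0]] 3 [.cj 26, .cj 27, .cj 35, .cj 33, .cj 25, .wd [1, 2, 1, 0, 2]]⟩,
  ⟨[32, 38, 43, 45], [32, 38, 43], .split 45 414 415⟩,
  ⟨[32, 38, 43, 45], [32, 38], .split 43 413 416⟩,
  ⟨[32, 38, 43, 44, 45], [32, 38], .kill 35 44 417 0⟩,
  ⟨[32, 38, 43, 44, 45], [32], .split 38 410 418⟩,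
  ⟨[32, 37], [32, 37], .leaf 0 [[0, 0], [0, 1], [1, 0], [0, 0]] 3 [.wd [1, 2, 1, 0, 2, 3]]⟩,
  ⟨[32, 37, 45], [32, 37, 45], .leaf 1 [[-1, 2, -1], [0, 2, 0], [0, 4, -2], [0, 0, 0]] 3 [.cj 34, .cj 29, .wd [1, 2, 1, 0, 2, 3]]⟩,
  ⟨[32, 37, 45], [32, 37], .split 45 420 421⟩,
  ⟨[32, 37, 43], [32, 37, 43], .leaf 1 [[-1, 0, 0], [-1, 0, -1], [0, 0, 0], [-1, -2, -1]] 3 [.cj 30, .cj 33, .cj 26, .wd [1, 2, 1, 0, 2, 3]]⟩,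
  ⟨[32, 37, 43, 45], [32, 37, 43, 45], .leaf 1 [[0, 0, 1, 1], [1, 0, 1, 2], [2, 0, 2, 2], [1, -2, 1, 2]] 3 [.cj 25, .cj 27, .cj 36, .cj 33, .cj 26, .wd [1, 2, 1, 0, 2, 3]]⟩,
  ⟨[32, 37, 43, 45], [32, 37, 43], .split 45 423 424⟩,
  ⟨[32, 37, 43, 45], [32, 37], .split 43 422 425⟩,
  ⟨[32, 37, 43, 44, 45], [32, 37], .kill 36 44 426 0⟩,
  ⟨[32, 37, 38, 43, 44, 45], [32, 37], .kill 24 38 427 0⟩,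
  ⟨[32, 37, 38, 43, 44, 45], [32], .split 37 419 428⟩,
  ⟨[32, 36], [32, 36], .leaf 0 [[0, 1], [0, 0], [1, 2], [0, 0]] 3 [.wd [1, 2, 1, 0, 2, 1]]⟩,
  ⟨[32, 36, 45], [32, 36, 45], .leaf 1 [[-1, 0, 0], [0, 0, 1], [0, 0, 0], [1, 2, 1]] 3 [.cj 26, .cj 34, .cj 30, .wd [1, 2, 1, 0, 2, 1]]⟩,
  ⟨[32, 36, 45], [32, 36], .split 45 430 431⟩,
  ⟨[32, 36, 43], [32, 36, 43], .leaf 1 [[-1, -2, 1], [-1, -4, 1], [0, -4, 2], [0, 0, 0]] 3 [.cj 33, .cj 28, .wd [1, 2, 1, 0, 2, 1]]⟩,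
  ⟨[32, 36, 43, 45], [32, 36, 43, 45], .leaf 1 [[0, 0, 1, 1], [1, 0, 1, 2], [2, 0, 2, 2], [1, 2, 0, 1]] 3 [.cj 26, .cj 28, .cj 34, .cj 33, .cj 30, .wd [1, 2, 1, 0, 2, 1]]⟩,
  ⟨[32, 36, 43, 45], [32, 36, 43], .split 45 433 434⟩,
  ⟨[32, 36, 43, 45], [32, 36], .split 43 432 435⟩,
  ⟨[32, 36, 43, 44, 45], [32, 36], .kill 37 44 436 0⟩,
  ⟨[32, 36, 38, 43, 44, 45], [32, 36], .kill 27 38 437 0⟩,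
  ⟨[32, 36, 37, 38, 43, 44, 45], [32, 36], .zero 44 37 438⟩,
  ⟨[32, 36, 37, 38, 43, 44, 45], [32], .split 36 429 439⟩,
  ⟨[32, 35], [32, 35], .leaf 0 [[0, 0], [1, -1], [1, 0], [0, 0]] 3 [.wd [1, 2, 1, 0, 2, 1, 3]]⟩,
  ⟨[32, 35, 45], [32, 35, 45], .leaf 1 [[-1, 0, 0], [0, 0, 1], [0, 0, 0], [-1, -2, -1]] 3 [.cj 25, .cj 34, .cj 31, .wd [1, 2, 1, 0, 2, 1, 3]]⟩,
  ⟨[32, 35, 45], [32, 35], .split 45 441 442⟩,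
  ⟨[32, 35, 43], [32, 35, 43], .leaf 1 [[-1, 2, -1], [-1, 4, -3], [0, 4, -2], [0, 0, 0]] 3 [.cj 33, .cj 29, .wd [1, 2, 1, 0, 2, 1, 3]]⟩,
  ⟨[32, 35, 43, 45], [32, 35, 43, 45], .leaf 1 [[0, 0, 1, 1], [1, 0, 1, 2], [2, 0, 2, 2], [1, -2, 2, 1]] 3 [.cj 25, .cj 29, .cj 34, .cj 33, .cj 31, .wd [1, 2, 1, 0, 2, 1, 3]]⟩,
  ⟨[32, 35, 43, 45], [32, 35, 43], .split 45 444 445⟩,
  ⟨[32, 35, 43, 45], [32, 35], .split 43 443 446⟩,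
  ⟨[32, 35, 43, 44, 45], [32, 35], .kill 38 44 447 0⟩,
  ⟨[32, 35, 37, 43, 44, 45], [32, 35], .kill 27 37 448 0⟩,
  ⟨[32, 35, 37, 38, 43, 44, 45], [32, 35], .zero 44 38 449⟩,
  ⟨[32, 35, 36, 37, 38, 43, 44, 45], [32, 35], .kill 24 36 450 0⟩,
  ⟨[32, 35, 36, 37, 38, 43, 44, 45], [32], .split 35 440 451⟩,
  ⟨[32, 35, 36, 37, 38, 43, 44, 45, 47], [32], .kill 42 47 452 0⟩,
  ⟨[32, 35, 36, 37, 38, 43, 44, 45, 46, 47], [32], .kill 41 46 453 0⟩,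
  ⟨[32, 35, 36, 37, 38, 40, 43, 44, 45, 46, 47], [32], .kill 34 40 454 0⟩,
  ⟨[32, 35, 36, 37, 38, 39, 40, 43, 44, 45, 46, 47], [32], .kill 33 39 455 0⟩,
  ⟨[32, 35, 36, 37, 38, 39, 40, 42, 43, 44, 45, 46, 47], [32], .zero 47 42 456⟩,
  ⟨[32, 35, 36, 37, 38, 39, 40, 41, 42, 43, 44, 45, 46, 47], [32], .zero 46 41 457⟩,
  ⟨[32, 34, 35, 36, 37, 38, 39, 40, 41, 42, 43, 44, 45, 46, 47], [32], .zero 40 34 458⟩,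
  ⟨[32, 33, 34, 35, 36, 37, 38, 39, 40, 41, 42, 43, 44, 45, 46, 47], [32], .zero 39 33 459⟩,
  ⟨[32, 33, 34, 35, 36, 37, 38, 39, 40, 41, 42, 43, 44, 45, 46, 47], [], .split 32 398 460⟩,
  ⟨[31], [31], .leaf 0 [[0], [0], [-1], [0]] 0 [.wd [3, 2, 1, 0, 2]]⟩,
  ⟨[31, 46], [31, 46], .leaf 1 [[-1, -1], [0, 0], [0, 2], [0, 0]] 2 [.cj 35, .wd [3, 2, 1, 0, 2]]⟩,
  ⟨[31, 46], [31], .split 46 462 463⟩,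
  ⟨[31, 44], [31, 44], .leaf 0 [[0, 1], [0, 0], [-1, -2], [0, 0]] 3 [.wd [1, 0, 2]]⟩,
  ⟨[31, 44, 46], [31, 44, 46], .leaf 1 [[0, 2, 0], [1, 2, 1], [0, 0, 2], [0, 0, 0]] 3 [.wd [0], .cj 33, .cj 28, .wd [1, 2]]⟩,
  ⟨[31, 44, 46], [31, 44], .split 46 465 466⟩,
  ⟨[31, 44, 46], [31], .split 44 464 467⟩,
  ⟨[31, 42], [31, 42], .leaf 1 [[0, 1], [1, 1], [0, 0], [0, 0]] 2 [.cj 33, .wd [0, 3, 2, 1, 0, 2]]⟩,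
  ⟨[31, 42, 46], [31, 42, 46], .leaf 1 [[0, 1, 1], [1, 1, 2], [0, 0, 2], [0, 0, 0]] 3 [.cj 28, .wd [0, 1, 2], .cj 33, .cj 27, .wd [1]]⟩,
  ⟨[31, 42, 46], [31, 42], .split 46 469 470⟩,
  ⟨[31, 42, 44, 46], [31, 42], .kill 28 44 471 0⟩,
  ⟨[31, 42, 44, 46], [31], .split 42 468 472⟩,
  ⟨[31, 39], [31, 39], .leaf 0 [[0, 0], [1, 1], [1, 2], [0, 0]] 3 [.wd [1, 2, 1, 0]]⟩,
  ⟨[31, 39, 46], [31, 39, 46], .leaf 1 [[-1, -2, 1], [0, -2, 2], [0, 0, 2], [0, 0, 0]] 3 [.cj 35, .cj 27, .wd [1, 2, 1, 0]]⟩,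
  ⟨[31, 39, 46], [31, 39], .split 46 474 475⟩,
  ⟨[31, 39, 42], [31, 39, 42], .leaf 1 [[0, 0, 0], [1, 0, -1], [1, 2, -1], [1, 2, 1]] 3 [.wd [2], .cj 31, .cj 33, .cj 25, .wd [1, 2, 1, 0, 2]]⟩,
  ⟨[31, 39, 42, 46], [31, 39, 42, 46], .leaf 1 [[0, 0, 1, 1], [1, 0, 1, 2], [1, 2, 1, 2], [1, 2, 1, 0]] 3 [.cj 24, .cj 28, .wd [2], .cj 35, .cj 33, .cj 25, .wd [1, 2, 1, 0, 2]]⟩,
  ⟨[31, 39, 42, 46], [31, 39, 42], .split 46 477 478⟩,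
  ⟨[31, 39, 42, 46], [31, 39], .split 42 476 479⟩,
  ⟨[31, 39, 42, 44, 46], [31, 39], .kill 34 44 480 0⟩,
  ⟨[31, 39, 42, 44, 46], [31], .split 39 473 481⟩,
  ⟨[31, 37], [31, 37], .leaf 0 [[0, 0], [0, 1], [-1, 2], [0, 0]] 3 [.wd [1, 2, 1, 0, 2, 3, 2]]⟩,
  ⟨[31, 37, 46], [31, 37, 46], .leaf 1 [[-1, 2, -1], [0, 2, 0], [0, 0, 2], [0, 0, 0]] 3 [.cj 35, .cj 29, .wd [1, 2, 1, 0, 2, 3, 2]]⟩,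
  ⟨[31, 37, 46], [31, 37], .split 46 483 484⟩,
  ⟨[31, 37, 42], [31, 37, 42], .leaf 1 [[0, 0, 0], [1, 0, -1], [1, -2, -3], [1, -2, -1]] 3 [.cj 30, .cj 33, .cj 24, .wd [1, 2, 1, 0, 2, 3, 2]]⟩,
  ⟨[31, 37, 42, 46], [31, 37, 42, 46], .leaf 1 [[0, 0, 1, 1], [1, 0, 1, 2], [1, -2, 1, 4], [1, -2, 1, 2]] 3 [.cj 28, .cj 24, .cj 36, .cj 30, .cj 33, .wd [1, 2, 1, 0, 2, 3, 2]]⟩,
  ⟨[31, 37, 42, 46], [31, 37, 42], .split 46 486 487⟩,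
  ⟨[31, 37, 42, 46], [31, 37], .split 42 485 488⟩,
  ⟨[31, 37, 42, 44, 46], [31, 37], .kill 36 44 489 0⟩,
  ⟨[31, 37, 39, 42, 44, 46], [31, 37], .kill 26 39 490 0⟩,
  ⟨[31, 37, 39, 42, 44, 46], [31], .split 37 482 491⟩,
  ⟨[31, 36], [31, 36], .leaf 0 [[0, 1], [0, 0], [-1, -2], [0, 0]] 3 [.wd [1, 2, 1, 0, 2, 1, 2]]⟩,
  ⟨[31, 36, 46], [31, 36, 46], .leaf 1 [[-1, 0, -1], [0, 0, 0], [1, 2, 3], [1, 2, 1]] 3 [.cj 24, .cj 35, .cj 30, .wd [1, 2, 1, 0, 2, 1, 2]]⟩,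
  ⟨[31, 36, 46], [31, 36], .split 46 493 494⟩,
  ⟨[31, 36, 42], [31, 36, 42], .leaf 1 [[-1, -2, 1], [-1, -4, 1], [-2, -4, 0], [0, 0, 0]] 3 [.cj 33, .cj 27, .wd [1, 2, 1, 0, 2, 1, 2]]⟩,
  ⟨[31, 36, 42, 46], [31, 36, 42, 46], .leaf 1 [[0, 0, 1, 1], [1, 0, 1, 2], [1, 2, 0, 3], [1, 2, 0, 1]] 3 [.cj 24, .cj 27, .cj 35, .cj 33, .cj 30, .wd [1, 2, 1, 0, 2, 1, 2]]⟩,
  ⟨[31, 36, 42, 46], [31, 36, 42], .split 46 496 497⟩,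
  ⟨[31, 36, 42, 46], [31, 36], .split 42 495 498⟩,
  ⟨[31, 36, 42, 44, 46], [31, 36], .kill 37 44 499 0⟩,
  ⟨[31, 36, 39, 42, 44, 46], [31, 36], .kill 28 39 500 0⟩,
  ⟨[31, 36, 37, 39, 42, 44, 46], [31, 36], .zero 44 37 501⟩,
  ⟨[31, 36, 37, 39, 42, 44, 46], [31], .split 36 492 502⟩,
  ⟨[31, 34], [31, 34], .leaf 0 [[0, 1], [0, 0], [0, 0], [1, 2]] 3 [.wd [1, 2, 1, 0, 2, 1, 3, 2]]⟩,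
  ⟨[31, 34, 46], [31, 34, 46], .leaf 1 [[-1, 0, -1], [0, 0, 0], [-1, -2, -1], [-1, -2, -3]] 3 [.cj 41, .cj 35, .cj 32, .wd [1, 2, 1, 0, 2, 1, 3, 2]]⟩,
  ⟨[31, 34, 46], [31, 34], .split 46 504 505⟩,
  ⟨[31, 34, 42], [31, 34, 42], .leaf 1 [[-1, 2, -1], [-1, 4, -3], [-2, 4, -4], [0, 0, 0]] 3 [.cj 33, .cj 29, .wd [1, 2, 1, 0, 2, 1, 3, 2]]⟩,
  ⟨[31, 34, 42, 46], [31, 34, 42, 46], .leaf 1 [[0, 0, 1, 1], [1, 0, 1, 2], [1, -2, 2, 3], [1, -2, 2, 1]] 3 [.cj 29, .cj 30, .cj 35, .cj 33, .cj 32, .wd [1, 2, 1, 0, 2, 1, 3, 2]]⟩,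
  ⟨[31, 34, 42, 46], [31, 34, 42], .split 46 507 508⟩,
  ⟨[31, 34, 42, 46], [31, 34], .split 42 506 509⟩,
  ⟨[31, 34, 42, 44, 46], [31, 34], .kill 39 44 510 0⟩,
  ⟨[31, 34, 37, 42, 44, 46], [31, 34], .kill 28 37 511 0⟩,
  ⟨[31, 34, 37, 39, 42, 44, 46], [31, 34], .zero 44 39 512⟩,
  ⟨[31, 34, 36, 37, 39, 42, 44, 46], [31, 34], .kill 26 36 513 0⟩,
  ⟨[31, 34, 36, 37, 39, 42, 44, 46], [31], .split 34 503 514⟩,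
  ⟨[31, 34, 36, 37, 39, 42, 44, 46, 47], [31], .kill 43 47 515 0⟩,
  ⟨[31, 34, 36, 37, 39, 42, 44, 45, 46, 47], [31], .kill 41 45 516 0⟩,
  ⟨[31, 34, 36, 37, 39, 40, 42, 44, 45, 46, 47], [31], .kill 35 40 517 0⟩,
  ⟨[31, 34, 36, 37, 38, 39, 40, 42, 44, 45, 46, 47], [31], .kill 33 38 518 0⟩,
  ⟨[31, 34, 36, 37, 38, 39, 40, 42, 43, 44, 45, 46, 47], [31], .zero 47 43 519⟩,
  ⟨[31, 34, 36, 37, 38, 39, 40, 41, 42, 43, 44, 45, 46, 47], [31], .zero 45 41 520⟩,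
  ⟨[31, 34, 35, 36, 37, 38, 39, 40, 41, 42, 43, 44, 45, 46, 47], [31], .zero 40 35 521⟩,
  ⟨[31, 32, 34, 35, 36, 37, 38, 39, 40, 41, 42, 43, 44, 45, 46, 47], [31], .kill 25 32 522 0⟩,
  ⟨[31, 32, 33, 34, 35, 36, 37, 38, 39, 40, 41, 42, 43, 44, 45, 46, 47], [31], .zero 38 33 523⟩,
  ⟨[31, 32, 33, 34, 35, 36, 37, 38, 39, 40, 41, 42, 43, 44, 45, 46, 47], [], .split 31 461 524⟩,
  ⟨[30], [30], .leaf 0 [[0], [0], [0], [-1]] 0 [.wd [3, 2, 1, 0, 2, 3]]⟩,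
  ⟨[30, 47], [30, 47], .leaf 1 [[-1, -1], [0, 0], [0, 0], [0, 2]] 2 [.cj 36, .wd [3, 2, 1, 0, 2, 3]]⟩,
  ⟨[30, 47], [30], .split 47 526 527⟩,
  ⟨[30, 44], [30, 44], .leaf 0 [[0, 1], [0, 0], [0, 0], [-1, -2]] 3 [.wd [1, 0, 2, 3]]⟩,
  ⟨[30, 44, 47], [30, 44, 47], .leaf 1 [[0, 2, 0], [1, 2, 1], [0, 0, 0], [0, 0, 2]] 3 [.wd [0], .cj 33, .cj 29, .wd [1, 2, 3]]⟩,
  ⟨[30, 44, 47], [30, 44], .split 47 529 530⟩,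
  ⟨[30, 44, 47], [30], .split 44 528 531⟩,
  ⟨[30, 41], [30, 41], .leaf 1 [[0, 1], [1, 1], [0, 0], [0, 0]] 2 [.cj 33, .wd [0, 3, 2, 1, 0, 2, 3]]⟩,
  ⟨[30, 41, 47], [30, 41, 47], .leaf 1 [[0, 1, 1], [1, 1, 2], [0, 0, 0], [0, 0, 2]] 3 [.cj 29, .wd [0, 1, 2, 3], .cj 33, .cj 27, .wd [1]]⟩,
  ⟨[30, 41, 47], [30, 41], .split 47 533 534⟩,
  ⟨[30, 41, 44, 47], [30, 41], .kill 29 44 535 0⟩,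
  ⟨[30, 41, 44, 47], [30], .split 41 532 536⟩,
  ⟨[30, 39], [30, 39], .leaf 0 [[0, 0], [0, -1], [0, 0], [-1, -2]] 3 [.wd [1, 2, 1, 0, 3]]⟩,
  ⟨[30, 39, 47], [30, 39, 47], .leaf 1 [[-1, -2, -1], [0, -2, 0], [0, 0, 0], [0, 0, 2]] 3 [.cj 36, .cj 27, .wd [1, 2, 1, 0, 3]]⟩,
  ⟨[30, 39, 47], [30, 39], .split 47 538 539⟩,
  ⟨[30, 39, 41], [30, 39, 41], .leaf 1 [[0, 0, 1], [1, 0, 1], [1, 2, 1], [0, 0, 0]] 3 [.wd [3, 2], .cj 30, .cj 33, .cj 24, .wd [1, 2, 1, 0, 2, 3, 2]]⟩,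
  ⟨[30, 39, 41, 47], [30, 39, 41, 47], .leaf 1 [[0, 0, 1, 1], [1, 0, 1, 2], [1, 2, 1, 2], [0, 0, 0, 2]] 3 [.cj 27, .cj 36, .wd [3, 2], .cj 30, .cj 33, .cj 24, .wd [1, 2, 1, 0, 2, 3, 2]]⟩,
  ⟨[30, 39, 41, 47], [30, 39, 41], .split 47 541 542⟩,
  ⟨[30, 39, 41, 47], [30, 39], .split 41 540 543⟩,
  ⟨[30, 39, 41, 44, 47], [30, 39], .kill 34 44 544 0⟩,
  ⟨[30, 39, 41, 44, 47], [30], .split 39 537 545⟩,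
  ⟨[30, 38], [30, 38], .leaf 0 [[0, 0], [0, 0], [-1, -1], [-1, 0]] 3 [.wd [1, 2, 1, 0, 3, 2]]⟩,
  ⟨[30, 38, 47], [30, 38, 47], .leaf 1 [[-1, 2, -3], [0, 2, -2], [0, 0, 0], [0, 0, 2]] 3 [.cj 36, .cj 28, .wd [1, 2, 1, 0, 3, 2]]⟩,
  ⟨[30, 38, 47], [30, 38], .split 47 547 548⟩,
  ⟨[30, 38, 41], [30, 38, 41], .leaf 1 [[0, 0, 1], [1, 0, 1], [1, -2, 1], [0, 0, 0]] 3 [.wd [3], .cj 30, .cj 33, .cj 24, .wd [1, 2, 1, 0, 2, 3, 2]]⟩,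
  ⟨[30, 38, 41, 47], [30, 38, 41, 47], .leaf 1 [[0, 0, 1, 1], [1, 0, 1, 2], [1, -2, 1, 4], [0, 0, 0, 2]] 3 [.cj 28, .cj 36, .wd [3], .cj 30, .cj 33, .cj 24, .wd [1, 2, 1, 0, 2, 3, 2]]⟩,
  ⟨[30, 38, 41, 47], [30, 38, 41], .split 47 550 551⟩,
  ⟨[30, 38, 41, 47], [30, 38], .split 41 549 552⟩,
  ⟨[30, 38, 41, 44, 47], [30, 38], .kill 35 44 553 0⟩,
  ⟨[30, 38, 39, 41, 44, 47], [30, 38], .kill 25 39 554 0⟩,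
  ⟨[30, 38, 39, 41, 44, 47], [30], .split 38 546 555⟩,
  ⟨[30, 35], [30, 35], .leaf 0 [[0, 0], [0, 0], [-1, 1], [-1, 0]] 3 [.wd [1, 2, 1, 0, 2, 1, 2, 3]]⟩,
  ⟨[30, 35, 47], [30, 35, 47], .leaf 1 [[-1, 0, -1], [0, 0, 0], [1, 2, 3], [0, 0, 2]] 3 [.cj 43, .cj 36, .cj 31, .wd [1, 2, 1, 0, 2, 1, 2, 3]]⟩,
  ⟨[30, 35, 47], [30, 35], .split 47 557 558⟩,
  ⟨[30, 35, 41], [30, 35, 41], .leaf 1 [[0, 0, 1], [1, 0, 1], [1, 2, 0], [0, 0, 0]] 3 [.cj 33, .cj 27, .wd [1, 2, 1, 0, 2, 1, 2, 3]]⟩,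
  ⟨[30, 35, 41, 47], [30, 35, 41, 47], .leaf 1 [[0, 0, 1, 1], [1, 0, 1, 2], [1, 2, 0, 3], [0, 0, 0, 2]] 3 [.cj 27, .cj 32, .cj 36, .cj 33, .cj 31, .wd [1, 2, 1, 0, 2, 1, 2, 3]]⟩,
  ⟨[30, 35, 41, 47], [30, 35, 41], .split 47 560 561⟩,
  ⟨[30, 35, 41, 47], [30, 35], .split 41 559 562⟩,
  ⟨[30, 35, 41, 44, 47], [30, 35], .kill 38 44 563 0⟩,
  ⟨[30, 35, 39, 41, 44, 47], [30, 35], .kill 29 39 564 0⟩,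
  ⟨[30, 35, 38, 39, 41, 44, 47], [30, 35], .zero 44 38 565⟩,
  ⟨[30, 35, 38, 39, 41, 44, 47], [30], .split 35 556 566⟩,
  ⟨[30, 34], [30, 34], .leaf 0 [[0, 1], [0, 0], [0, 0], [-1, -2]] 3 [.wd [1, 2, 1, 0, 2, 1, 2, 3, 2]]⟩,
  ⟨[30, 34, 47], [30, 34, 47], .leaf 1 [[-1, 0, -1], [0, 0, 0], [-1, -2, -1], [0, 0, 2]] 3 [.cj 42, .cj 36, .cj 32, .wd [1, 2, 1, 0, 2, 1, 2, 3, 2]]⟩,
  ⟨[30, 34, 47], [30, 34], .split 47 568 569⟩,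
  ⟨[30, 34, 41], [30, 34, 41], .leaf 1 [[0, 0, 1], [1, 0, 1], [1, -2, 2], [0, 0, 0]] 3 [.cj 33, .cj 28, .wd [1, 2, 1, 0, 2, 1, 2, 3, 2]]⟩,
  ⟨[30, 34, 41, 47], [30, 34, 41, 47], .leaf 1 [[0, 0, 1, 1], [1, 0, 1, 2], [1, -2, 2, 3], [0, 0, 0, 2]] 3 [.cj 28, .cj 31, .cj 36, .cj 33, .cj 32, .wd [1, 2, 1, 0, 2, 1, 2, 3, 2]]⟩,
  ⟨[30, 34, 41, 47], [30, 34, 41], .split 47 571 572⟩,
  ⟨[30, 34, 41, 47], [30, 34], .split 41 570 573⟩,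
  ⟨[30, 34, 41, 44, 47], [30, 34], .kill 39 44 574 0⟩,
  ⟨[30, 34, 38, 41, 44, 47], [30, 34], .kill 29 38 575 0⟩,
  ⟨[30, 34, 38, 39, 41, 44, 47], [30, 34], .zero 44 39 576⟩,
  ⟨[30, 34, 35, 38, 39, 41, 44, 47], [30, 34], .kill 25 35 577 0⟩,
  ⟨[30, 34, 35, 38, 39, 41, 44, 47], [30], .split 34 567 578⟩,
  ⟨[30, 34, 35, 38, 39, 41, 44, 46, 47], [30], .kill 43 46 579 0⟩,
  ⟨[30, 34, 35, 38, 39, 41, 44, 45, 46, 47], [30], .kill 42 45 580 0⟩,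
  ⟨[30, 34, 35, 38, 39, 40, 41, 44, 45, 46, 47], [30], .kill 36 40 581 0⟩,
  ⟨[30, 34, 35, 37, 38, 39, 40, 41, 44, 45, 46, 47], [30], .kill 33 37 582 0⟩,
  ⟨[30, 34, 35, 37, 38, 39, 40, 41, 43, 44, 45, 46, 47], [30], .zero 46 43 583⟩,
  ⟨[30, 34, 35, 37, 38, 39, 40, 41, 42, 43, 44, 45, 46, 47], [30], .zero 45 42 584⟩,
  ⟨[30, 34, 35, 36, 37, 38, 39, 40, 41, 42, 43, 44, 45, 46, 47], [30], .zero 40 36 585⟩,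
  ⟨[30, 32, 34, 35, 36, 37, 38, 39, 40, 41, 42, 43, 44, 45, 46, 47], [30], .kill 26 32 586 0⟩,
  ⟨[30, 31, 32, 34, 35, 36, 37, 38, 39, 40, 41, 42, 43, 44, 45, 46, 47], [30], .kill 24 31 587 0⟩,
  ⟨[30, 31, 32, 33, 34, 35, 36, 37, 38, 39, 40, 41, 42, 43, 44, 45, 46, 47], [30], .zero 37 33 588⟩,
  ⟨[30, 31, 32, 33, 34, 35, 36, 37, 38, 39, 40, 41, 42, 43, 44, 45, 46, 47], [], .split 30 525 589⟩,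
  ⟨[29], [29], .leaf 0 [[-1], [0], [0], [0]] 1 [.wd [0, 1, 2, 1, 0]]⟩,
  ⟨[29, 47], [29, 47], .leaf 0 [[-1, 1], [0, 0], [0, 0], [0, 1]] 2 [.wd [0, 1, 2, 1, 0]]⟩,
  ⟨[29, 47], [29], .split 47 591 592⟩,
  ⟨[29, 46], [29, 46], .leaf 0 [[-1, 0], [0, 0], [0, 1], [0, 0]] 3 [.wd [2, 1, 0]]⟩,
  ⟨[29, 46, 47], [29, 46], .kill 24 47 594 0⟩,
  ⟨[29, 46, 47], [29], .split 46 593 595⟩,
  ⟨[29, 45], [29, 45], .leaf 0 [[-1, 0], [0, 0], [0, -1], [0, 0]] 3 [.wd [2, 1, 0, 2]]⟩,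
  ⟨[29, 45, 47], [29, 45], .kill 26 47 597 0⟩,
  ⟨[29, 45, 46, 47], [29, 45], .kill 25 46 598 0⟩]

/-- Some nodes. -/
def nodes3 : List Node := [
  ⟨[29, 45, 46, 47], [29], .split 45 596 599⟩,
  ⟨[29, 43], [29, 43], .leaf 0 [[-1, 0], [0, 0], [2, 1], [0, 0]] 3 [.wd [2, 1, 0, 2, 1]]⟩,
  ⟨[29, 43, 45], [29, 43, 45], .leaf 1 [[0, 1, 1], [0, 0, 1], [0, 0, 0], [2, 1, 1]] 3 [.cj 41, .cj 26, .cj 27, .wd [2, 1, 0, 2, 1]]⟩,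
  ⟨[29, 43, 45], [29, 43], .split 45 601 602⟩,
  ⟨[29, 43, 45, 47], [29, 43], .kill 31 47 603 0⟩,
  ⟨[29, 43, 45, 46, 47], [29, 43], .kill 30 46 604 0⟩,
  ⟨[29, 43, 45, 46, 47], [29], .split 43 600 605⟩,
  ⟨[29, 42], [29, 42], .leaf 0 [[-1, 0], [0, 0], [-2, -1], [0, 0]] 3 [.wd [2, 1, 0, 2, 1, 2]]⟩,
  ⟨[29, 42, 46], [29, 42, 46], .leaf 1 [[0, 1, 1], [0, 0, 0], [2, 1, 3], [2, 1, 1]] 3 [.cj 41, .cj 24, .cj 28, .wd [2, 1, 0, 2, 1, 2]]⟩,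
  ⟨[29, 42, 46], [29, 42], .split 46 607 608⟩,
  ⟨[29, 42, 46, 47], [29, 42], .kill 32 47 609 0⟩,
  ⟨[29, 42, 45, 46, 47], [29, 42], .kill 30 45 610 0⟩,
  ⟨[29, 42, 43, 45, 46, 47], [29, 42], .kill 25 43 611 0⟩,
  ⟨[29, 42, 43, 45, 46, 47], [29], .split 42 606 612⟩,
  ⟨[29, 32], [29, 32], .leaf 0 [[-1, 0], [0, 0], [-2, 1], [0, 0]] 2 [.wd [0, 1, 3, 2, 1, 0]]⟩,
  ⟨[29, 32, 46], [29, 32, 46], .leaf 0 [[1, -1, 1], [0, 0, 0], [2, -1, 2], [2, -1, 1]] 3 [.wd [2, 1, 0], .cj 25, .wd []]⟩,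
  ⟨[29, 32, 46], [29, 32], .split 46 614 615⟩,
  ⟨[29, 32, 45], [29, 32, 45], .leaf 1 [[-2, 0, 0], [-2, 1, 1], [-4, 2, 0], [0, 0, 0]] 3 [.wd [1, 0], .cj 35, .cj 27, .wd [1, 2, 1, 2]]⟩,
  ⟨[29, 32, 45, 46], [29, 32, 45], .kill 25 46 617 0⟩,
  ⟨[29, 32, 45, 46], [29, 32], .split 45 616 618⟩,
  ⟨[29, 32, 43], [29, 32, 43], .leaf 1 [[-2, 0, 0], [-4, 1, -1], [-4, 2, 0], [0, 0, 0]] 3 [.wd [0], .cj 33, .cj 28, .wd [1, 2, 1, 0, 2, 1]]⟩,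
  ⟨[29, 32, 43, 45], [29, 32, 43, 45], .leaf 1 [[0, 0, 1, 1], [0, 1, 1, 2], [0, 2, 2, 2], [2, 0, 1, 1]] 3 [.cj 26, .wd [0], .cj 28, .cj 34, .cj 33, .cj 30, .wd [1, 2, 1, 0, 2, 1]]⟩,
  ⟨[29, 32, 43, 45], [29, 32, 43], .split 45 620 621⟩,
  ⟨[29, 32, 43, 45, 46], [29, 32, 43], .kill 30 46 622 0⟩,
  ⟨[29, 32, 43, 45, 46], [29, 32], .split 43 619 623⟩,
  ⟨[29, 32, 43, 45, 46, 47], [29, 32], .kill 42 47 624 0⟩,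
  ⟨[29, 32, 42, 43, 45, 46, 47], [29, 32], .zero 47 42 625⟩,
  ⟨[29, 32, 42, 43, 45, 46, 47], [29], .split 32 613 626⟩,
  ⟨[29, 31], [29, 31], .leaf 0 [[-1, 0], [0, 0], [2, -1], [0, 0]] 2 [.wd [0, 1, 3, 2, 1, 0, 2]]⟩,
  ⟨[29, 31, 46], [29, 31, 46], .leaf 1 [[-2, 0, 0], [-2, 1, 1], [0, 0, 2], [0, 0, 0]] 3 [.wd [1, 2, 0], .cj 35, .cj 27, .wd [1, 2, 1, 2]]⟩,
  ⟨[29, 31, 46], [29, 31], .split 46 628 629⟩,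
  ⟨[29, 31, 45], [29, 31, 45], .leaf 0 [[1, -1, 1], [0, 0, 0], [0, 0, -1], [2, -1, 1]] 3 [.wd [2, 1, 0], .cj 25, .wd [1, 2, 1]]⟩,
  ⟨[29, 31, 45, 46], [29, 31, 45, 46], .leaf 1 [[2, -2, 2, 0], [2, -1, 2, 1], [4, -2, 2, 2], [4, -2, 2, 0]] 3 [.wd [1, 2, 0], .cj 35, .cj 30, .cj 27, .wd [1, 2, 1, 2]]⟩,
  ⟨[29, 31, 45, 46], [29, 31, 45], .split 46 631 632⟩,
  ⟨[29, 31, 45, 46], [29, 31], .split 45 630 633⟩,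
  ⟨[29, 31, 42], [29, 31, 42], .leaf 1 [[-2, 0, 0], [-4, 1, -1], [-4, 0, -2], [0, 0, 0]] 3 [.wd [0], .cj 33, .cj 27, .wd [1, 2, 1, 0, 2, 1, 2]]⟩,
  ⟨[29, 31, 42, 46], [29, 31, 42, 46], .leaf 1 [[0, 0, 1, 1], [0, 1, 1, 2], [2, 0, 1, 3], [2, 0, 1, 1]] 3 [.cj 24, .wd [0], .cj 27, .cj 35, .cj 33, .cj 30, .wd [1, 2, 1, 0, 2, 1, 2]]⟩,
  ⟨[29, 31, 42, 46], [29, 31, 42], .split 46 635 636⟩,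
  ⟨[29, 31, 42, 45, 46], [29, 31, 42], .kill 30 45 637 0⟩,
  ⟨[29, 31, 42, 45, 46], [29, 31], .split 42 634 638⟩,
  ⟨[29, 31, 42, 45, 46, 47], [29, 31], .kill 43 47 639 0⟩,
  ⟨[29, 31, 42, 43, 45, 46, 47], [29, 31], .zero 47 43 640⟩,
  ⟨[29, 31, 32, 42, 43, 45, 46, 47], [29, 31], .kill 25 32 641 0⟩,
  ⟨[29, 31, 32, 42, 43, 45, 46, 47], [29], .split 31 627 642⟩,
  ⟨[29, 30], [29, 30], .leaf 1 [[-2, 0], [-2, 1], [0, 0], [0, 0]] 3 [.wd [1, 2, 1, 3, 2, 1, 0]]⟩,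
  ⟨[29, 30, 47], [29, 30, 47], .leaf 1 [[-2, 0, 2], [-2, 1, 3], [0, 0, 0], [0, 0, 2]] 3 [.cj 37, .cj 36, .wd [1, 2, 1, 3, 2, 1, 0]]⟩,
  ⟨[29, 30, 47], [29, 30], .split 47 644 645⟩,
  ⟨[29, 30, 46, 47], [29, 30], .kill 43 46 646 0⟩,
  ⟨[29, 30, 45, 46, 47], [29, 30], .kill 42 45 647 0⟩,
  ⟨[29, 30, 32, 45, 46, 47], [29, 30], .kill 26 32 648 0⟩,
  ⟨[29, 30, 31, 32, 45, 46, 47], [29, 30], .kill 24 31 649 0⟩,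
  ⟨[29, 30, 31, 32, 43, 45, 46, 47], [29, 30], .zero 46 43 650⟩,
  ⟨[29, 30, 31, 32, 42, 43, 45, 46, 47], [29, 30], .zero 45 42 651⟩,
  ⟨[29, 30, 31, 32, 42, 43, 45, 46, 47], [29], .split 30 643 652⟩,
  ⟨[29, 30, 31, 32, 42, 43, 44, 45, 46, 47], [29], .kill 41 44 653 0⟩,
  ⟨[29, 30, 31, 32, 40, 42, 43, 44, 45, 46, 47], [29], .kill 37 40 654 0⟩,
  ⟨[29, 30, 31, 32, 39, 40, 42, 43, 44, 45, 46, 47], [29], .kill 35 39 655 0⟩,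
  ⟨[29, 30, 31, 32, 38, 39, 40, 42, 43, 44, 45, 46, 47], [29], .kill 34 38 656 0⟩,
  ⟨[29, 30, 31, 32, 38, 39, 40, 41, 42, 43, 44, 45, 46, 47], [29], .zero 44 41 657⟩,
  ⟨[29, 30, 31, 32, 37, 38, 39, 40, 41, 42, 43, 44, 45, 46, 47], [29], .zero 40 37 658⟩,
  ⟨[29, 30, 31, 32, 36, 37, 38, 39, 40, 41, 42, 43, 44, 45, 46, 47], [29], .kill 33 36 659 0⟩,
  ⟨[29, 30, 31, 32, 35, 36, 37, 38, 39, 40, 41, 42, 43, 44, 45, 46, 47], [29], .zero 39 35 660⟩,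
  ⟨[29, 30, 31, 32, 34, 35, 36, 37, 38, 39, 40, 41, 42, 43, 44, 45, 46, 47], [29], .zero 38 34 661⟩,
  ⟨[29, 30, 31, 32, 33, 34, 35, 36, 37, 38, 39, 40, 41, 42, 43, 44, 45, 46, 47], [29], .zero 36 33 662⟩,
  ⟨[29, 30, 31, 32, 33, 34, 35, 36, 37, 38, 39, 40, 41, 42, 43, 44, 45, 46, 47], [], .split 29 590 663⟩,
  ⟨[28], [28], .leaf 0 [[-1], [0], [0], [0]] 1 [.wd [0, 1, 2, 1, 0, 3]]⟩,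
  ⟨[28, 47], [28, 47], .leaf 0 [[-1, -1], [0, 0], [0, 0], [0, 1]] 3 [.wd [2, 1, 0, 3]]⟩,
  ⟨[28, 47], [28], .split 47 665 666⟩,
  ⟨[28, 46], [28, 46], .leaf 0 [[-1, 1], [0, 0], [0, 1], [0, 0]] 2 [.wd [0, 1, 2, 1, 0, 3]]⟩,
  ⟨[28, 46, 47], [28, 46, 47], .leaf 0 [[-1, 1, 0], [0, 0, 0], [0, 1, 1], [0, 0, 1]] 3 [.wd [3], .cj 24, .wd [2, 1, 0]]⟩,
  ⟨[28, 46, 47], [28, 46], .split 47 668 669⟩,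
  ⟨[28, 46, 47], [28], .split 46 667 670⟩,
  ⟨[28, 45], [28, 45], .leaf 0 [[-1, -1], [0, 0], [0, -1], [0, 0]] 3 [.wd [2, 1, 0, 2, 3]]⟩,
  ⟨[28, 45, 47], [28, 45], .kill 26 47 672 0⟩,
  ⟨[28, 45, 46, 47], [28, 45], .kill 25 46 673 0⟩,
  ⟨[28, 45, 46, 47], [28], .split 45 671 674⟩,
  ⟨[28, 43], [28, 43], .leaf 0 [[0, 0], [0, 0], [0, 1], [-1, 1]] 3 [.wd [2, 1, 0, 2, 1, 3]]⟩,
  ⟨[28, 43, 45], [28, 43, 45], .leaf 1 [[0, 1, 1], [0, 0, 1], [0, 0, 0], [-2, -1, -1]] 3 [.cj 42, .cj 25, .cj 27, .wd [2, 1, 0, 2, 1, 3]]⟩,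
  ⟨[28, 43, 45], [28, 43], .split 45 676 677⟩,
  ⟨[28, 43, 45, 47], [28, 43], .kill 31 47 678 0⟩,
  ⟨[28, 43, 45, 46, 47], [28, 43], .kill 30 46 679 0⟩,
  ⟨[28, 43, 45, 46, 47], [28], .split 43 675 680⟩,
  ⟨[28, 41], [28, 41], .leaf 0 [[0, 0], [0, 0], [1, -1], [0, -1]] 3 [.wd [2, 1, 0, 2, 1, 2, 3]]⟩,
  ⟨[28, 41, 47], [28, 41, 47], .leaf 1 [[0, 1, 1], [0, 0, 0], [2, 1, 3], [0, 0, 2]] 3 [.cj 42, .cj 32, .cj 29, .wd [2, 1, 0, 2, 1, 2, 3]]⟩,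
  ⟨[28, 41, 47], [28, 41], .split 47 682 683⟩,
  ⟨[28, 41, 46, 47], [28, 41], .kill 32 46 684 0⟩,
  ⟨[28, 41, 45, 46, 47], [28, 41], .kill 31 45 685 0⟩,
  ⟨[28, 41, 43, 45, 46, 47], [28, 41], .kill 26 43 686 0⟩,
  ⟨[28, 41, 43, 45, 46, 47], [28], .split 41 681 687⟩,
  ⟨[28, 32], [28, 32], .leaf 0 [[1, -1], [0, 0], [2, -1], [0, 0]] 2 [.wd [0, 1, 2, 3, 2, 1, 0]]⟩,
  ⟨[28, 32, 47], [28, 32, 47], .leaf 0 [[1, -1, 1], [0, 0, 0], [2, -1, 2], [0, 0, 1]] 3 [.wd [3, 2, 1, 0], .cj 24, .wd [2]]⟩,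
  ⟨[28, 32, 47], [28, 32], .split 47 689 690⟩,
  ⟨[28, 32, 45], [28, 32, 45], .leaf 1 [[2, -2, 0], [2, -1, 1], [4, -2, 0], [0, 0, 0]] 3 [.wd [1, 0], .cj 36, .cj 27, .wd [1, 2, 1, 2, 3]]⟩,
  ⟨[28, 32, 45, 47], [28, 32, 45], .kill 26 47 692 0⟩,
  ⟨[28, 32, 45, 47], [28, 32], .split 45 691 693⟩,
  ⟨[28, 32, 43], [28, 32, 43], .leaf 1 [[2, -2, 0], [4, -3, -1], [4, -2, 0], [0, 0, 0]] 3 [.wd [0], .cj 33, .cj 29, .wd [1, 2, 1, 0, 2, 1, 3]]⟩,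
  ⟨[28, 32, 43, 45], [28, 32, 43, 45], .leaf 1 [[0, 0, 1, 1], [0, 1, 1, 2], [0, 2, 2, 2], [-2, 2, 1, 1]] 3 [.cj 25, .wd [0], .cj 29, .cj 34, .cj 33, .cj 31, .wd [1, 2, 1, 0, 2, 1, 3]]⟩,
  ⟨[28, 32, 43, 45], [28, 32, 43], .split 45 695 696⟩,
  ⟨[28, 32, 43, 45, 47], [28, 32, 43], .kill 31 47 697 0⟩,
  ⟨[28, 32, 43, 45, 47], [28, 32], .split 43 694 698⟩,
  ⟨[28, 32, 43, 45, 46, 47], [28, 32], .kill 41 46 699 0⟩,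
  ⟨[28, 32, 41, 43, 45, 46, 47], [28, 32], .zero 46 41 700⟩,
  ⟨[28, 32, 41, 43, 45, 46, 47], [28], .split 32 688 701⟩,
  ⟨[28, 31], [28, 31], .leaf 1 [[-2, 0], [-2, 1], [0, 0], [0, 0]] 3 [.wd [1, 2, 1, 2, 3, 2, 1, 0]]⟩,
  ⟨[28, 31, 46], [28, 31, 46], .leaf 1 [[-2, 0, 2], [-2, 1, 3], [0, 0, 2], [0, 0, 0]] 3 [.cj 38, .cj 35, .wd [1, 2, 1, 2, 3, 2, 1, 0]]⟩,
  ⟨[28, 31, 46], [28, 31], .split 46 703 704⟩,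
  ⟨[28, 31, 46, 47], [28, 31], .kill 43 47 705 0⟩,
  ⟨[28, 31, 45, 46, 47], [28, 31], .kill 41 45 706 0⟩,
  ⟨[28, 31, 32, 45, 46, 47], [28, 31], .kill 25 32 707 0⟩,
  ⟨[28, 31, 32, 43, 45, 46, 47], [28, 31], .zero 47 43 708⟩,
  ⟨[28, 31, 32, 41, 43, 45, 46, 47], [28, 31], .zero 45 41 709⟩,
  ⟨[28, 31, 32, 41, 43, 45, 46, 47], [28], .split 31 702 710⟩,
  ⟨[28, 30], [28, 30], .leaf 0 [[1, -1], [0, 0], [0, 0], [-2, 1]] 2 [.wd [0, 1, 3, 2, 1, 0, 2, 3]]⟩,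
  ⟨[28, 30, 47], [28, 30, 47], .leaf 1 [[-2, 0, -2], [-2, 1, -1], [0, 0, 0], [0, 0, 2]] 3 [.wd [1, 2, 3, 0], .cj 35, .cj 27, .wd [1, 2, 1, 2]]⟩,
  ⟨[28, 30, 47], [28, 30], .split 47 712 713⟩,
  ⟨[28, 30, 45], [28, 30, 45], .leaf 0 [[1, -1, 1], [0, 0, 0], [0, 0, -1], [-2, 1, -2]] 3 [.wd [3, 2, 1, 0], .cj 24, .wd [1, 2, 1, 3, 2]]⟩,
  ⟨[28, 30, 45, 47], [28, 30, 45, 47], .leaf 1 [[2, -2, 2, 0], [2, -1, 2, 1], [4, -2, 2, 2], [0, 0, 0, 2]] 3 [.wd [1, 2, 3, 0], .cj 35, .cj 30, .cj 27, .wd [1, 2, 1, 2]]⟩,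
  ⟨[28, 30, 45, 47], [28, 30, 45], .split 47 715 716⟩,
  ⟨[28, 30, 45, 47], [28, 30], .split 45 714 717⟩,
  ⟨[28, 30, 41], [28, 30, 41], .leaf 1 [[0, 0, 1], [0, 1, 1], [2, 0, 1], [0, 0, 0]] 3 [.wd [0], .cj 33, .cj 27, .wd [1, 2, 1, 0, 2, 1, 2, 3]]⟩,
  ⟨[28, 30, 41, 47], [28, 30, 41, 47], .leaf 1 [[0, 0, 1, 1], [0, 1, 1, 2], [2, 0, 1, 3], [0, 0, 0, 2]] 3 [.cj 32, .wd [0], .cj 27, .cj 36, .cj 33, .cj 31, .wd [1, 2, 1, 0, 2, 1, 2, 3]]⟩,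
  ⟨[28, 30, 41, 47], [28, 30, 41], .split 47 719 720⟩,
  ⟨[28, 30, 41, 45, 47], [28, 30, 41], .kill 31 45 721 0⟩,
  ⟨[28, 30, 41, 45, 47], [28, 30], .split 41 718 722⟩,
  ⟨[28, 30, 31], [28, 30, 31], .leaf 1 [[-2, 2, -2], [-2, 3, -2], [0, 2, -2], [0, 0, 0]] 3 [.wd [3], .cj 24, .wd [1, 2, 1, 3, 2, 1, 0]]⟩,
  ⟨[28, 30, 31, 47], [28, 30, 31, 47], .leaf 1 [[-2, 2, -2, 2], [-2, 3, -2, 3], [0, 2, -2, 4], [0, 0, 0, 2]] 3 [.wd [1, 2, 3, 0], .cj 35, .cj 27, .cj 26, .wd [1, 2, 1, 3, 2]]⟩,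
  ⟨[28, 30, 31, 47], [28, 30, 31], .split 47 724 725⟩,
  ⟨[28, 30, 31, 45, 47], [28, 30, 31], .kill 41 45 726 0⟩,
  ⟨[28, 30, 31, 41, 45, 47], [28, 30, 31], .zero 45 41 727⟩,
  ⟨[28, 30, 31, 41, 45, 47], [28, 30], .split 31 723 728⟩,
  ⟨[28, 30, 31, 41, 45, 46, 47], [28, 30], .kill 43 46 729 0⟩,
  ⟨[28, 30, 31, 41, 43, 45, 46, 47], [28, 30], .zero 46 43 730⟩,
  ⟨[28, 30, 31, 32, 41, 43, 45, 46, 47], [28, 30], .kill 26 32 731 0⟩,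
  ⟨[28, 30, 31, 32, 41, 43, 45, 46, 47], [28], .split 30 711 732⟩,
  ⟨[28, 30, 31, 32, 41, 43, 44, 45, 46, 47], [28], .kill 42 44 733 0⟩,
  ⟨[28, 30, 31, 32, 40, 41, 43, 44, 45, 46, 47], [28], .kill 38 40 734 0⟩,
  ⟨[28, 30, 31, 32, 39, 40, 41, 43, 44, 45, 46, 47], [28], .kill 36 39 735 0⟩,
  ⟨[28, 30, 31, 32, 37, 39, 40, 41, 43, 44, 45, 46, 47], [28], .kill 34 37 736 0⟩,
  ⟨[28, 30, 31, 32, 37, 39, 40, 41, 42, 43, 44, 45, 46, 47], [28], .zero 44 42 737⟩,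
  ⟨[28, 30, 31, 32, 37, 38, 39, 40, 41, 42, 43, 44, 45, 46, 47], [28], .zero 40 38 738⟩,
  ⟨[28, 30, 31, 32, 35, 37, 38, 39, 40, 41, 42, 43, 44, 45, 46, 47], [28], .kill 33 35 739 0⟩,
  ⟨[28, 30, 31, 32, 35, 36, 37, 38, 39, 40, 41, 42, 43, 44, 45, 46, 47], [28], .zero 39 36 740⟩,
  ⟨[28, 29, 30, 31, 32, 35, 36, 37, 38, 39, 40, 41, 42, 43, 44, 45, 46, 47], [28], .kill 24 29 741 0⟩,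
  ⟨[28, 29, 30, 31, 32, 34, 35, 36, 37, 38, 39, 40, 41, 42, 43, 44, 45, 46, 47], [28], .zero 37 34 742⟩,
  ⟨[28, 29, 30, 31, 32, 33, 34, 35, 36, 37, 38, 39, 40, 41, 42, 43, 44, 45, 46, 47], [28], .zero 35 33 743⟩,
  ⟨[28, 29, 30, 31, 32, 33, 34, 35, 36, 37, 38, 39, 40, 41, 42, 43, 44, 45, 46, 47], [], .split 28 664 744⟩,
  ⟨[27], [27], .leaf 0 [[-1], [0], [0], [0]] 1 [.wd [0, 1, 2, 1, 0, 3, 2]]⟩,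
  ⟨[27, 47], [27, 47], .leaf 0 [[-1, 0], [0, 0], [0, 0], [0, 1]] 3 [.wd [2, 1, 0, 3, 2]]⟩,
  ⟨[27, 47], [27], .split 47 746 747⟩,
  ⟨[27, 46], [27, 46], .leaf 0 [[-1, -1], [0, 0], [0, 1], [0, 0]] 3 [.wd [2, 1, 0, 2, 3, 2]]⟩,
  ⟨[27, 46, 47], [27, 46], .kill 24 47 749 0⟩,
  ⟨[27, 46, 47], [27], .split 46 748 750⟩,
  ⟨[27, 45], [27, 45], .leaf 0 [[-1, 1], [0, 0], [0, -1], [0, 0]] 2 [.wd [0, 1, 2, 1, 0, 3, 2]]⟩,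
  ⟨[27, 45, 47], [27, 45, 47], .leaf 0 [[-1, 1, 0], [0, 0, 0], [0, -1, 0], [0, 0, 1]] 3 [.wd [3, 2], .cj 24, .wd [2, 1, 0]]⟩,
  ⟨[27, 45, 47], [27, 45], .split 47 752 753⟩,
  ⟨[27, 45, 46], [27, 45, 46], .leaf 0 [[-1, 1, 0], [0, 0, 0], [0, -1, 0], [0, -1, -1]] 3 [.wd [2], .cj 25, .wd [2, 1, 0, 2, 3]]⟩,
  ⟨[27, 45, 46, 47], [27, 45, 46], .kill 24 47 755 0⟩,
  ⟨[27, 45, 46, 47], [27, 45], .split 46 754 756⟩,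
  ⟨[27, 45, 46, 47], [27], .split 45 751 757⟩,
  ⟨[27, 42], [27, 42], .leaf 0 [[-1, 0], [0, 0], [0, 0], [2, 1]] 3 [.wd [2, 1, 0, 2, 1, 3, 2]]⟩,
  ⟨[27, 42, 46], [27, 42, 46], .leaf 1 [[0, 1, 1], [0, 0, 0], [-2, -1, -1], [-2, -1, -3]] 3 [.cj 43, .cj 30, .cj 28, .wd [2, 1, 0, 2, 1, 3, 2]]⟩,
  ⟨[27, 42, 46], [27, 42], .split 46 759 760⟩,
  ⟨[27, 42, 46, 47], [27, 42], .kill 32 47 761 0⟩,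
  ⟨[27, 42, 45, 46, 47], [27, 42], .kill 30 45 762 0⟩,
  ⟨[27, 42, 45, 46, 47], [27], .split 42 758 763⟩,
  ⟨[27, 41], [27, 41], .leaf 0 [[-1, 0], [0, 0], [0, 0], [-2, -1]] 3 [.wd [2, 1, 0, 2, 1, 2, 3, 2]]⟩,
  ⟨[27, 41, 47], [27, 41, 47], .leaf 1 [[0, 1, 1], [0, 0, 0], [-2, -1, -1], [0, 0, 2]] 3 [.cj 43, .cj 31, .cj 29, .wd [2, 1, 0, 2, 1, 2, 3, 2]]⟩,
  ⟨[27, 41, 47], [27, 41], .split 47 765 766⟩,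
  ⟨[27, 41, 46, 47], [27, 41], .kill 32 46 767 0⟩,
  ⟨[27, 41, 45, 46, 47], [27, 41], .kill 31 45 768 0⟩,
  ⟨[27, 41, 42, 45, 46, 47], [27, 41], .kill 24 42 769 0⟩,
  ⟨[27, 41, 42, 45, 46, 47], [27], .split 41 764 770⟩,
  ⟨[27, 32], [27, 32], .leaf 1 [[0, 0], [1, 1], [0, 2], [0, 0]] 3 [.wd [1, 2, 1, 2, 3, 2, 1, 0, 2]]⟩,
  ⟨[27, 32, 45], [27, 32, 45], .leaf 1 [[-2, 0, 2], [-2, 1, 3], [-4, 2, 4], [0, 0, 0]] 3 [.cj 39, .cj 34, .wd [1, 2, 1, 2, 3, 2, 1, 0, 2]]⟩,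
  ⟨[27, 32, 45], [27, 32], .split 45 772 773⟩,
  ⟨[27, 32, 45, 47], [27, 32], .kill 42 47 774 0⟩,
  ⟨[27, 32, 45, 46, 47], [27, 32], .kill 41 46 775 0⟩,
  ⟨[27, 32, 42, 45, 46, 47], [27, 32], .zero 47 42 776⟩,
  ⟨[27, 32, 41, 42, 45, 46, 47], [27, 32], .zero 46 41 777⟩,
  ⟨[27, 32, 41, 42, 45, 46, 47], [27], .split 32 771 778⟩,
  ⟨[27, 31], [27, 31], .leaf 0 [[1, -1], [0, 0], [-2, 1], [0, 0]] 2 [.wd [0, 1, 2, 3, 2, 1, 0, 2]]⟩,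
  ⟨[27, 31, 47], [27, 31, 47], .leaf 0 [[1, -1, 1], [0, 0, 0], [-2, 1, -1], [0, 0, 1]] 3 [.wd [3, 2, 1, 2, 0], .cj 24, .wd [2]]⟩,
  ⟨[27, 31, 47], [27, 31], .split 47 780 781⟩,
  ⟨[27, 31, 46], [27, 31, 46], .leaf 1 [[2, -2, 0], [2, -1, 1], [0, 0, 2], [0, 0, 0]] 3 [.wd [1, 2, 0], .cj 36, .cj 27, .wd [1, 2, 1, 2, 3]]⟩,
  ⟨[27, 31, 46, 47], [27, 31, 46], .kill 24 47 783 0⟩,
  ⟨[27, 31, 46, 47], [27, 31], .split 46 782 784⟩,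
  ⟨[27, 31, 42], [27, 31, 42], .leaf 1 [[2, -2, 0], [4, -3, -1], [4, -4, -2], [0, 0, 0]] 3 [.wd [0], .cj 33, .cj 29, .wd [1, 2, 1, 0, 2, 1, 3, 2]]⟩,
  ⟨[27, 31, 42, 46], [27, 31, 42, 46], .leaf 1 [[0, 0, 1, 1], [0, 1, 1, 2], [-2, 2, 1, 3], [-2, 2, 1, 1]] 3 [.cj 30, .wd [0], .cj 29, .cj 35, .cj 33, .cj 32, .wd [1, 2, 1, 0, 2, 1, 3, 2]]⟩,
  ⟨[27, 31, 42, 46], [27, 31, 42], .split 46 786 787⟩,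
  ⟨[27, 31, 42, 46, 47], [27, 31, 42], .kill 32 47 788 0⟩,
  ⟨[27, 31, 42, 46, 47], [27, 31], .split 42 785 789⟩,
  ⟨[27, 31, 32], [27, 31, 32], .leaf 1 [[2, -2, 0], [4, -3, 1], [4, -4, 2], [0, 0, 0]] 3 [.wd [2], .cj 25, .wd [1, 2, 1, 2, 3, 2, 1, 0]]⟩,
  ⟨[27, 31, 32, 46], [27, 31, 32, 46], .leaf 1 [[-2, 2, -2, 2], [-2, 3, -2, 3], [-4, 4, -2, 4], [-4, 4, -2, 2]] 3 [.wd [1, 2, 0], .cj 36, .cj 27, .cj 25, .wd [1, 2, 1, 2, 3, 2]]⟩,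
  ⟨[27, 31, 32, 46], [27, 31, 32], .split 46 791 792⟩,
  ⟨[27, 31, 32, 46, 47], [27, 31, 32], .kill 42 47 793 0⟩,
  ⟨[27, 31, 32, 42, 46, 47], [27, 31, 32], .zero 47 42 794⟩,
  ⟨[27, 31, 32, 42, 46, 47], [27, 31], .split 32 790 795⟩,
  ⟨[27, 31, 32, 42, 45, 46, 47], [27, 31], .kill 41 45 796 0⟩,
  ⟨[27, 31, 32, 41, 42, 45, 46, 47], [27, 31], .zero 45 41 797⟩,
  ⟨[27, 31, 32, 41, 42, 45, 46, 47], [27], .split 31 779 798⟩]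

/-- Some nodes. -/
def nodes4 : List Node := [
  ⟨[27, 30], [27, 30], .leaf 0 [[-1, 0], [0, 0], [0, 0], [2, -1]] 2 [.wd [0, 1, 2, 3, 2, 1, 0, 2, 3]]⟩,
  ⟨[27, 30, 47], [27, 30, 47], .leaf 1 [[2, -2, -2], [2, -1, -1], [0, 0, 0], [0, 0, 2]] 3 [.wd [1, 2, 3, 0], .cj 36, .cj 27, .wd [1, 2, 1, 2, 3]]⟩,
  ⟨[27, 30, 47], [27, 30], .split 47 800 801⟩,
  ⟨[27, 30, 46], [27, 30, 46], .leaf 0 [[1, -1, 1], [0, 0, 0], [-2, 1, -1], [-2, 1, -2]] 3 [.wd [3, 2, 1, 2, 0], .cj 24, .wd [1, 2, 1, 3, 2]]⟩,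
  ⟨[27, 30, 46, 47], [27, 30, 46, 47], .leaf 1 [[2, -2, 2, 0], [2, -1, 2, 1], [0, 0, 2, 2], [0, 0, 0, 2]] 3 [.wd [1, 2, 3, 0], .cj 36, .cj 31, .cj 27, .wd [1, 2, 1, 2, 3]]⟩,
  ⟨[27, 30, 46, 47], [27, 30, 46], .split 47 803 804⟩,
  ⟨[27, 30, 46, 47], [27, 30], .split 46 802 805⟩,
  ⟨[27, 30, 41], [27, 30, 41], .leaf 1 [[0, 0, 1], [0, 1, 1], [-2, 2, 1], [0, 0, 0]] 3 [.wd [0], .cj 33, .cj 28, .wd [1, 2, 1, 0, 2, 1, 2, 3, 2]]⟩,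
  ⟨[27, 30, 41, 47], [27, 30, 41, 47], .leaf 1 [[0, 0, 1, 1], [0, 1, 1, 2], [-2, 2, 1, 3], [0, 0, 0, 2]] 3 [.cj 31, .wd [0], .cj 28, .cj 36, .cj 33, .cj 32, .wd [1, 2, 1, 0, 2, 1, 2, 3, 2]]⟩,
  ⟨[27, 30, 41, 47], [27, 30, 41], .split 47 807 808⟩,
  ⟨[27, 30, 41, 46, 47], [27, 30, 41], .kill 32 46 809 0⟩,
  ⟨[27, 30, 41, 46, 47], [27, 30], .split 41 806 810⟩,
  ⟨[27, 30, 32], [27, 30, 32], .leaf 1 [[-2, 2, -2], [-2, 3, -2], [-4, 4, -2], [0, 0, 0]] 3 [.wd [3, 2], .cj 24, .wd [1, 2, 1, 3, 2, 1, 0]]⟩,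
  ⟨[27, 30, 32, 47], [27, 30, 32, 47], .leaf 1 [[-2, 2, -2, 2], [-2, 3, -2, 3], [-4, 4, -2, 4], [0, 0, 0, 2]] 3 [.wd [1, 2, 3, 0], .cj 36, .cj 27, .cj 25, .wd [1, 2, 1, 2, 3, 2]]⟩,
  ⟨[27, 30, 32, 47], [27, 30, 32], .split 47 812 813⟩,
  ⟨[27, 30, 32, 46, 47], [27, 30, 32], .kill 41 46 814 0⟩,
  ⟨[27, 30, 32, 41, 46, 47], [27, 30, 32], .zero 46 41 815⟩,
  ⟨[27, 30, 32, 41, 46, 47], [27, 30], .split 32 811 816⟩,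
  ⟨[27, 30, 32, 41, 45, 46, 47], [27, 30], .kill 42 45 817 0⟩,
  ⟨[27, 30, 32, 41, 42, 45, 46, 47], [27, 30], .zero 45 42 818⟩,
  ⟨[27, 30, 31, 32, 41, 42, 45, 46, 47], [27, 30], .kill 24 31 819 0⟩,
  ⟨[27, 30, 31, 32, 41, 42, 45, 46, 47], [27], .split 30 799 820⟩,
  ⟨[27, 30, 31, 32, 41, 42, 44, 45, 46, 47], [27], .kill 43 44 821 0⟩,
  ⟨[27, 30, 31, 32, 40, 41, 42, 44, 45, 46, 47], [27], .kill 39 40 822 0⟩,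
  ⟨[27, 30, 31, 32, 38, 40, 41, 42, 44, 45, 46, 47], [27], .kill 36 38 823 0⟩,
  ⟨[27, 30, 31, 32, 37, 38, 40, 41, 42, 44, 45, 46, 47], [27], .kill 35 37 824 0⟩,
  ⟨[27, 30, 31, 32, 37, 38, 40, 41, 42, 43, 44, 45, 46, 47], [27], .zero 44 43 825⟩,
  ⟨[27, 30, 31, 32, 37, 38, 39, 40, 41, 42, 43, 44, 45, 46, 47], [27], .zero 40 39 826⟩,
  ⟨[27, 30, 31, 32, 34, 37, 38, 39, 40, 41, 42, 43, 44, 45, 46, 47], [27], .kill 33 34 827 0⟩,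
  ⟨[27, 30, 31, 32, 34, 36, 37, 38, 39, 40, 41, 42, 43, 44, 45, 46, 47], [27], .zero 38 36 828⟩,
  ⟨[27, 29, 30, 31, 32, 34, 36, 37, 38, 39, 40, 41, 42, 43, 44, 45, 46, 47], [27], .kill 26 29 829 0⟩,
  ⟨[27, 29, 30, 31, 32, 34, 35, 36, 37, 38, 39, 40, 41, 42, 43, 44, 45, 46, 47], [27], .zero 37 35 830⟩,
  ⟨[27, 28, 29, 30, 31, 32, 34, 35, 36, 37, 38, 39, 40, 41, 42, 43, 44, 45, 46, 47], [27], .kill 25 28 831 0⟩,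
  ⟨[27, 28, 29, 30, 31, 32, 33, 34, 35, 36, 37, 38, 39, 40, 41, 42, 43, 44, 45, 46, 47], [27], .zero 34 33 832⟩,
  ⟨[27, 28, 29, 30, 31, 32, 33, 34, 35, 36, 37, 38, 39, 40, 41, 42, 43, 44, 45, 46, 47], [], .split 27 745 833⟩,
  ⟨[26], [26], .leaf 0 [[0], [0], [1], [0]] 0 [.wd [3, 2, 1, 0, 2, 1]]⟩,
  ⟨[26, 46], [26, 46], .leaf 1 [[0, 0], [-1, 1], [0, 2], [0, 0]] 2 [.cj 37, .wd [3, 2, 1, 0, 2, 1]]⟩,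
  ⟨[26, 46], [26], .split 46 835 836⟩,
  ⟨[26, 44], [26, 44], .leaf 0 [[0, 1], [0, 0], [1, 0], [0, 0]] 3 [.wd [1, 0, 2, 1]]⟩,
  ⟨[26, 44, 46], [26, 44, 46], .leaf 1 [[0, 2, 0], [-1, 0, 1], [0, 0, 2], [0, 0, 0]] 3 [.wd [1, 0], .cj 35, .cj 27, .wd [1, 2, 1, 0]]⟩,
  ⟨[26, 44, 46], [26, 44], .split 46 838 839⟩,
  ⟨[26, 44, 46], [26], .split 44 837 840⟩,
  ⟨[26, 42], [26, 42], .leaf 1 [[0, 1], [-1, 0], [0, 0], [0, 0]] 2 [.cj 34, .wd [0, 3, 2, 1, 0, 2, 1]]⟩,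
  ⟨[26, 42, 46], [26, 42, 46], .leaf 1 [[0, 1, 1], [-1, 0, 1], [0, 0, 2], [0, 0, 0]] 3 [.cj 28, .wd [0, 1, 2, 1], .cj 33, .cj 27, .wd [1]]⟩,
  ⟨[26, 42, 46], [26, 42], .split 46 842 843⟩,
  ⟨[26, 42, 44, 46], [26, 42], .kill 28 44 844 0⟩,
  ⟨[26, 42, 44, 46], [26], .split 42 841 845⟩,
  ⟨[26, 40], [26, 40], .leaf 0 [[0, -1], [0, 0], [1, 0], [0, 0]] 3 [.wd [1, 0, 2, 1, 0]]⟩,
  ⟨[26, 40, 46], [26, 40, 46], .leaf 1 [[-1, -2, 1], [-1, 0, 1], [0, 0, 2], [0, 0, 0]] 3 [.wd [1], .cj 35, .cj 27, .wd [1, 2, 1, 0]]⟩,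
  ⟨[26, 40, 46], [26, 40], .split 46 847 848⟩,
  ⟨[26, 40, 42], [26, 40, 42], .leaf 1 [[0, -2, 0], [0, 0, 0], [1, -2, -1], [1, 2, 1]] 3 [.wd [2, 1], .cj 31, .cj 33, .cj 25, .wd [1, 2, 1, 0, 2]]⟩,
  ⟨[26, 40, 42, 46], [26, 40, 42, 46], .leaf 1 [[0, 0, 1, 1], [0, 2, 1, 1], [1, 2, 1, 2], [1, 2, 1, 0]] 3 [.cj 24, .cj 28, .wd [2, 1], .cj 35, .cj 33, .cj 25, .wd [1, 2, 1, 0, 2]]⟩,
  ⟨[26, 40, 42, 46], [26, 40, 42], .split 46 850 851⟩,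
  ⟨[26, 40, 42, 46], [26, 40], .split 42 849 852⟩,
  ⟨[26, 40, 42, 44, 46], [26, 40], .kill 33 44 853 0⟩,
  ⟨[26, 40, 42, 44, 46], [26], .split 40 846 854⟩,
  ⟨[26, 38], [26, 38], .leaf 0 [[0, 0], [-1, -1], [-1, -2], [0, 0]] 3 [.wd [1, 0, 2, 1, 0, 2, 1, 2]]⟩,
  ⟨[26, 38, 46], [26, 38, 46], .leaf 1 [[0, 0, 0], [0, 2, 2], [1, 2, 3], [1, 2, 1]] 3 [.cj 24, .cj 37, .cj 25, .wd [1, 0, 2, 1, 0, 2, 1, 2]]⟩,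
  ⟨[26, 38, 46], [26, 38], .split 46 856 857⟩,
  ⟨[26, 38, 42], [26, 38, 42], .leaf 1 [[-1, -2, 1], [-2, -2, 0], [-2, -4, 0], [0, 0, 0]] 3 [.wd [1], .cj 33, .cj 27, .wd [1, 2, 1, 0, 2, 1, 2]]⟩,
  ⟨[26, 38, 42, 46], [26, 38, 42, 46], .leaf 1 [[0, 0, 1, 1], [0, 2, 0, 2], [1, 2, 0, 3], [1, 2, 0, 1]] 3 [.cj 24, .cj 34, .wd [1], .cj 27, .cj 35, .cj 30, .wd [1, 2, 1, 0, 2, 1, 2]]⟩,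
  ⟨[26, 38, 42, 46], [26, 38, 42], .split 46 859 860⟩,
  ⟨[26, 38, 42, 46], [26, 38], .split 42 858 861⟩,
  ⟨[26, 38, 42, 44, 46], [26, 38], .kill 35 44 862 0⟩,
  ⟨[26, 38, 40, 42, 44, 46], [26, 38], .kill 28 40 863 0⟩,
  ⟨[26, 38, 40, 42, 44, 46], [26], .split 38 855 864⟩,
  ⟨[26, 35], [26, 35], .leaf 0 [[-1, 1], [0, 0], [1, 0], [0, 0]] 3 [.wd [1, 2, 1, 0, 2, 3, 2, 1]]⟩,
  ⟨[26, 35, 46], [26, 35, 46], .leaf 1 [[-1, 2, -1], [-1, 0, 1], [0, 0, 2], [0, 0, 0]] 3 [.cj 37, .cj 29, .wd [1, 2, 1, 0, 2, 3, 2, 1]]⟩,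
  ⟨[26, 35, 46], [26, 35], .split 46 866 867⟩,
  ⟨[26, 35, 42], [26, 35, 42], .leaf 1 [[0, 0, 0], [0, -2, -2], [1, -2, -3], [1, -2, -1]] 3 [.cj 25, .cj 34, .cj 24, .wd [1, 2, 1, 0, 2, 3, 2, 1]]⟩,
  ⟨[26, 35, 42, 46], [26, 35, 42, 46], .leaf 1 [[0, 0, 1, 1], [0, -2, 1, 3], [1, -2, 1, 4], [1, -2, 1, 2]] 3 [.cj 25, .cj 28, .cj 38, .cj 34, .cj 24, .wd [1, 2, 1, 0, 2, 3, 2, 1]]⟩,
  ⟨[26, 35, 42, 46], [26, 35, 42], .split 46 869 870⟩,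
  ⟨[26, 35, 42, 46], [26, 35], .split 42 868 871⟩,
  ⟨[26, 35, 42, 44, 46], [26, 35], .kill 38 44 872 0⟩,
  ⟨[26, 35, 40, 42, 44, 46], [26, 35], .kill 31 40 873 0⟩,
  ⟨[26, 35, 38, 40, 42, 44, 46], [26, 35], .zero 44 38 874⟩,
  ⟨[26, 35, 38, 40, 42, 44, 46], [26], .split 35 865 875⟩,
  ⟨[26, 33], [26, 33], .leaf 0 [[0, 0], [0, -1], [1, -2], [0, 0]] 3 [.wd [1, 2, 1, 0, 2, 1, 3, 2, 1]]⟩,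
  ⟨[26, 33, 46], [26, 33, 46], .leaf 1 [[0, 1, 0], [0, 0, 0], [1, 0, 1], [1, 0, -1]] 3 [.cj 41, .cj 37, .cj 32, .wd [1, 2, 1, 0, 2, 1, 3, 2, 1]]⟩,
  ⟨[26, 33, 46], [26, 33], .split 46 877 878⟩,
  ⟨[26, 33, 42], [26, 33, 42], .leaf 1 [[-1, 2, -1], [-2, 2, -2], [-2, 4, -4], [0, 0, 0]] 3 [.cj 34, .cj 29, .wd [1, 2, 1, 0, 2, 1, 3, 2, 1]]⟩,
  ⟨[26, 33, 42, 46], [26, 33, 42, 46], .leaf 1 [[0, 0, 1, 1], [0, -2, 2, 2], [1, -2, 2, 3], [1, -2, 2, 1]] 3 [.cj 25, .cj 29, .cj 37, .cj 34, .cj 32, .wd [1, 2, 1, 0, 2, 1, 3, 2, 1]]⟩,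
  ⟨[26, 33, 42, 46], [26, 33, 42], .split 46 880 881⟩,
  ⟨[26, 33, 42, 46], [26, 33], .split 42 879 882⟩,
  ⟨[26, 33, 42, 44, 46], [26, 33], .kill 40 44 883 0⟩,
  ⟨[26, 33, 38, 42, 44, 46], [26, 33], .kill 31 38 884 0⟩,
  ⟨[26, 33, 38, 40, 42, 44, 46], [26, 33], .zero 44 40 885⟩,
  ⟨[26, 33, 35, 38, 40, 42, 44, 46], [26, 33], .kill 28 35 886 0⟩,
  ⟨[26, 33, 35, 38, 40, 42, 44, 46], [26], .split 33 876 887⟩,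
  ⟨[26, 31], [26, 31], .leaf 1 [[-1, -1], [-1, 0], [0, 0], [0, 0]] 2 [.cj 27, .wd [0, 1, 3, 2, 1, 0, 2, 1]]⟩,
  ⟨[26, 31, 46], [26, 31, 46], .leaf 1 [[-1, -1, 0], [-1, 0, 1], [0, 0, 2], [0, 0, 0]] 3 [.cj 27, .wd [1, 2, 0, 1], .cj 35, .cj 27, .wd [1, 2, 1, 2]]⟩,
  ⟨[26, 31, 46], [26, 31], .split 46 889 890⟩,
  ⟨[26, 31, 44], [26, 31, 44], .leaf 1 [[0, 0, 2], [0, 0, 0], [1, -1, -2], [1, 1, 2]] 3 [.wd [2, 1, 0], .cj 31, .cj 33, .cj 25, .wd [1, 2, 1, 0, 2]]⟩,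
  ⟨[26, 31, 44, 46], [26, 31, 44, 46], .leaf 1 [[0, 0, 2, 0], [0, 1, 2, 1], [1, 1, 2, 2], [1, 1, 2, 0]] 3 [.cj 24, .cj 35, .wd [2, 1, 0], .cj 35, .cj 33, .cj 25, .wd [1, 2, 1, 0, 2]]⟩,
  ⟨[26, 31, 44, 46], [26, 31, 44], .split 46 892 893⟩,
  ⟨[26, 31, 44, 46], [26, 31], .split 44 891 894⟩,
  ⟨[26, 31, 42], [26, 31, 42], .leaf 1 [[-1, -1, 0], [-2, -1, -1], [-2, -2, -2], [0, 0, 0]] 3 [.cj 27, .wd [0, 1], .cj 33, .cj 27, .wd [1, 2, 1, 0, 2, 1, 2]]⟩,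
  ⟨[26, 31, 42, 46], [26, 31, 42, 46], .leaf 1 [[0, 0, 1, 1], [0, 1, 1, 2], [1, 1, 1, 3], [1, 1, 1, 1]] 3 [.cj 24, .cj 27, .wd [0, 1], .cj 27, .cj 35, .cj 33, .cj 30, .wd [1, 2, 1, 0, 2, 1, 2]]⟩,
  ⟨[26, 31, 42, 46], [26, 31, 42], .split 46 896 897⟩,
  ⟨[26, 31, 42, 44, 46], [26, 31, 42], .kill 28 44 898 0⟩,
  ⟨[26, 31, 42, 44, 46], [26, 31], .split 42 895 899⟩,
  ⟨[26, 31, 40, 42, 44, 46], [26, 31], .kill 35 40 900 0⟩,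
  ⟨[26, 31, 38, 40, 42, 44, 46], [26, 31], .kill 33 38 901 0⟩,
  ⟨[26, 31, 35, 38, 40, 42, 44, 46], [26, 31], .zero 40 35 902⟩,
  ⟨[26, 31, 33, 35, 38, 40, 42, 44, 46], [26, 31], .zero 38 33 903⟩,
  ⟨[26, 31, 33, 35, 38, 40, 42, 44, 46], [26], .split 31 888 904⟩,
  ⟨[26, 28], [26, 28], .leaf 0 [[1, -1], [0, 0], [1, 0], [0, 0]] 3 [.wd [1, 2, 1, 0, 2, 3, 2, 1, 0]]⟩,
  ⟨[26, 28, 46], [26, 28, 46], .leaf 1 [[0, -2, 2], [-1, 0, 1], [0, 0, 2], [0, 0, 0]] 3 [.cj 37, .cj 36, .wd [1, 2, 1, 0, 2, 3, 2, 1, 0]]⟩,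
  ⟨[26, 28, 46], [26, 28], .split 46 906 907⟩,
  ⟨[26, 28, 31], [26, 28, 31], .leaf 1 [[0, 0, 0], [0, 1, 1], [1, 2, 1], [1, 0, 1]] 3 [.cj 25, .cj 27, .cj 24, .wd [1, 2, 1, 0, 2, 3, 2, 1, 0]]⟩,
  ⟨[26, 28, 31, 46], [26, 28, 31, 46], .leaf 1 [[0, -2, 0, 2], [0, -2, 1, 3], [1, -2, 1, 4], [1, -2, 1, 2]] 3 [.cj 25, .cj 35, .cj 38, .cj 27, .cj 24, .wd [1, 2, 1, 0, 2, 3, 2, 1, 0]]⟩,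
  ⟨[26, 28, 31, 46], [26, 28, 31], .split 46 909 910⟩,
  ⟨[26, 28, 31, 46], [26, 28], .split 31 908 911⟩,
  ⟨[26, 28, 31, 44, 46], [26, 28], .kill 42 44 912 0⟩,
  ⟨[26, 28, 31, 40, 44, 46], [26, 28], .kill 38 40 913 0⟩,
  ⟨[26, 28, 31, 40, 42, 44, 46], [26, 28], .zero 44 42 914⟩,
  ⟨[26, 28, 31, 38, 40, 42, 44, 46], [26, 28], .zero 40 38 915⟩,
  ⟨[26, 28, 31, 35, 38, 40, 42, 44, 46], [26, 28], .kill 33 35 916 0⟩,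
  ⟨[26, 28, 31, 33, 35, 38, 40, 42, 44, 46], [26, 28], .zero 35 33 917⟩,
  ⟨[26, 28, 31, 33, 35, 38, 40, 42, 44, 46], [26], .split 28 905 918⟩,
  ⟨[26, 28, 31, 33, 35, 38, 40, 42, 44, 46, 47], [26], .kill 45 47 919 0⟩,
  ⟨[26, 28, 31, 33, 35, 38, 40, 42, 44, 45, 46, 47], [26], .zero 47 45 920⟩,
  ⟨[26, 28, 31, 33, 35, 38, 40, 42, 43, 44, 45, 46, 47], [26], .kill 41 43 921 0⟩,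
  ⟨[26, 28, 31, 33, 35, 38, 39, 40, 42, 43, 44, 45, 46, 47], [26], .kill 37 39 922 0⟩,
  ⟨[26, 28, 31, 33, 35, 37, 38, 39, 40, 42, 43, 44, 45, 46, 47], [26], .zero 39 37 923⟩,
  ⟨[26, 28, 31, 33, 35, 36, 37, 38, 39, 40, 42, 43, 44, 45, 46, 47], [26], .kill 34 36 924 0⟩,
  ⟨[26, 28, 31, 33, 35, 36, 37, 38, 39, 40, 41, 42, 43, 44, 45, 46, 47], [26], .zero 43 41 925⟩,
  ⟨[26, 28, 31, 32, 33, 35, 36, 37, 38, 39, 40, 41, 42, 43, 44, 45, 46, 47], [26], .kill 30 32 926 0⟩,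
  ⟨[26, 28, 31, 32, 33, 34, 35, 36, 37, 38, 39, 40, 41, 42, 43, 44, 45, 46, 47], [26], .zero 36 34 927⟩,
  ⟨[26, 28, 29, 31, 32, 33, 34, 35, 36, 37, 38, 39, 40, 41, 42, 43, 44, 45, 46, 47], [26], .kill 27 29 928 0⟩,
  ⟨[26, 28, 29, 30, 31, 32, 33, 34, 35, 36, 37, 38, 39, 40, 41, 42, 43, 44, 45, 46, 47], [26], .zero 32 30 929⟩,
  ⟨[26, 27, 28, 29, 30, 31, 32, 33, 34, 35, 36, 37, 38, 39, 40, 41, 42, 43, 44, 45, 46, 47], [26], .zero 29 27 930⟩,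
  ⟨[26, 27, 28, 29, 30, 31, 32, 33, 34, 35, 36, 37, 38, 39, 40, 41, 42, 43, 44, 45, 46, 47], [], .split 26 834 931⟩,
  ⟨[25], [25], .leaf 0 [[0], [0], [0], [-1]] 0 [.wd [3, 2, 1, 0, 2, 1, 3]]⟩,
  ⟨[25, 47], [25, 47], .leaf 1 [[0, 0], [-1, -1], [0, 0], [0, 2]] 2 [.cj 38, .wd [3, 2, 1, 0, 2, 1, 3]]⟩,
  ⟨[25, 47], [25], .split 47 933 934⟩,
  ⟨[25, 44], [25, 44], .leaf 0 [[0, 1], [0, 0], [0, 0], [-1, 0]] 3 [.wd [1, 0, 2, 1, 3]]⟩,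
  ⟨[25, 44, 47], [25, 44, 47], .leaf 1 [[0, 2, 0], [-1, 0, -1], [0, 0, 0], [0, 0, 2]] 3 [.wd [1, 0], .cj 36, .cj 27, .wd [1, 2, 1, 0, 3]]⟩,
  ⟨[25, 44, 47], [25, 44], .split 47 936 937⟩,
  ⟨[25, 44, 47], [25], .split 44 935 938⟩,
  ⟨[25, 41], [25, 41], .leaf 1 [[0, 1], [-1, 0], [0, 0], [0, 0]] 2 [.cj 34, .wd [0, 3, 2, 1, 0, 2, 1, 3]]⟩,
  ⟨[25, 41, 47], [25, 41, 47], .leaf 1 [[0, 1, 1], [-1, 0, -1], [0, 0, 0], [0, 0, 2]] 3 [.cj 29, .wd [0, 1, 2, 3, 1], .cj 33, .cj 27, .wd [1]]⟩,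
  ⟨[25, 41, 47], [25, 41], .split 47 940 941⟩,
  ⟨[25, 41, 44, 47], [25, 41], .kill 29 44 942 0⟩,
  ⟨[25, 41, 44, 47], [25], .split 41 939 943⟩,
  ⟨[25, 40], [25, 40], .leaf 0 [[0, -1], [0, 0], [0, 0], [-1, 0]] 3 [.wd [1, 0, 2, 1, 0, 3]]⟩,
  ⟨[25, 40, 47], [25, 40, 47], .leaf 1 [[-1, -2, -1], [-1, 0, -1], [0, 0, 0], [0, 0, 2]] 3 [.wd [1], .cj 36, .cj 27, .wd [1, 2, 1, 0, 3]]⟩,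
  ⟨[25, 40, 47], [25, 40], .split 47 945 946⟩,
  ⟨[25, 40, 41], [25, 40, 41], .leaf 1 [[0, 0, 1], [0, 2, 1], [1, 2, 1], [0, 0, 0]] 3 [.wd [3, 2, 1], .cj 30, .cj 33, .cj 24, .wd [1, 2, 1, 0, 2, 3, 2]]⟩,
  ⟨[25, 40, 41, 47], [25, 40, 41, 47], .leaf 1 [[0, 0, 1, 1], [0, 2, 1, 1], [1, 2, 1, 2], [0, 0, 0, 2]] 3 [.cj 29, .cj 32, .wd [3, 2, 1], .cj 36, .cj 33, .cj 24, .wd [1, 2, 1, 0, 2, 3, 2]]⟩,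
  ⟨[25, 40, 41, 47], [25, 40, 41], .split 47 948 949⟩,
  ⟨[25, 40, 41, 47], [25, 40], .split 41 947 950⟩,
  ⟨[25, 40, 41, 44, 47], [25, 40], .kill 33 44 951 0⟩,
  ⟨[25, 40, 41, 44, 47], [25], .split 40 944 952⟩,
  ⟨[25, 37], [25, 37], .leaf 1 [[0, 0], [0, 2], [1, 2], [0, 0]] 3 [.wd [1, 0, 2, 1, 0, 2, 1, 2, 3]]⟩,
  ⟨[25, 37, 47], [25, 37, 47], .leaf 1 [[0, 0, 0], [0, 2, 2], [1, 2, 3], [0, 0, 2]] 3 [.cj 45, .cj 38, .cj 26, .wd [1, 0, 2, 1, 0, 2, 1, 2, 3]]⟩,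
  ⟨[25, 37, 47], [25, 37], .split 47 954 955⟩,
  ⟨[25, 37, 41], [25, 37, 41], .leaf 1 [[0, 0, 1], [0, 2, 0], [1, 2, 0], [0, 0, 0]] 3 [.wd [1], .cj 33, .cj 27, .wd [1, 2, 1, 0, 2, 1, 2, 3]]⟩,
  ⟨[25, 37, 41, 47], [25, 37, 41, 47], .leaf 1 [[0, 0, 1, 1], [0, 2, 0, 2], [1, 2, 0, 3], [0, 0, 0, 2]] 3 [.cj 32, .cj 34, .wd [1], .cj 27, .cj 36, .cj 31, .wd [1, 2, 1, 0, 2, 1, 2, 3]]⟩,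
  ⟨[25, 37, 41, 47], [25, 37, 41], .split 47 957 958⟩,
  ⟨[25, 37, 41, 47], [25, 37], .split 41 956 959⟩,
  ⟨[25, 37, 41, 44, 47], [25, 37], .kill 36 44 960 0⟩,
  ⟨[25, 37, 40, 41, 44, 47], [25, 37], .kill 29 40 961 0⟩,
  ⟨[25, 37, 40, 41, 44, 47], [25], .split 37 953 962⟩,
  ⟨[25, 36], [25, 36], .leaf 0 [[1, 1], [0, 0], [0, 0], [-1, 0]] 3 [.wd [1, 2, 1, 0, 3, 2, 1]]⟩,
  ⟨[25, 36, 47], [25, 36, 47], .leaf 1 [[-1, 2, -3], [-1, 0, -1], [0, 0, 0], [0, 0, 2]] 3 [.cj 38, .cj 28, .wd [1, 2, 1, 0, 3, 2, 1]]⟩,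
  ⟨[25, 36, 47], [25, 36], .split 47 964 965⟩,
  ⟨[25, 36, 41], [25, 36, 41], .leaf 1 [[0, 0, 1], [0, -2, 1], [1, -2, 1], [0, 0, 0]] 3 [.wd [3], .cj 25, .cj 34, .cj 24, .wd [1, 2, 1, 0, 2, 3, 2, 1]]⟩,
  ⟨[25, 36, 41, 47], [25, 36, 41, 47], .leaf 1 [[0, 0, 1, 1], [0, -2, 1, 3], [1, -2, 1, 4], [0, 0, 0, 2]] 3 [.cj 26, .cj 29, .wd [3], .cj 38, .cj 34, .cj 24, .wd [1, 2, 1, 0, 2, 3, 2, 1]]⟩,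
  ⟨[25, 36, 41, 47], [25, 36, 41], .split 47 967 968⟩,
  ⟨[25, 36, 41, 47], [25, 36], .split 41 966 969⟩,
  ⟨[25, 36, 41, 44, 47], [25, 36], .kill 37 44 970 0⟩,
  ⟨[25, 36, 40, 41, 44, 47], [25, 36], .kill 30 40 971 0⟩,
  ⟨[25, 36, 37, 40, 41, 44, 47], [25, 36], .zero 44 37 972⟩,
  ⟨[25, 36, 37, 40, 41, 44, 47], [25], .split 36 963 973⟩,
  ⟨[25, 33], [25, 33], .leaf 0 [[0, 0], [0, -1], [0, 0], [-1, 2]] 3 [.wd [1, 2, 1, 0, 2, 1, 2, 3, 2, 1]]⟩,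
  ⟨[25, 33, 47], [25, 33, 47], .leaf 1 [[0, 1, 0], [0, 0, 0], [1, 0, 1], [0, 0, 2]] 3 [.cj 42, .cj 38, .cj 32, .wd [1, 2, 1, 0, 2, 1, 2, 3, 2, 1]]⟩,
  ⟨[25, 33, 47], [25, 33], .split 47 975 976⟩,
  ⟨[25, 33, 41], [25, 33, 41], .leaf 1 [[0, 0, 1], [0, -2, 2], [1, -2, 2], [0, 0, 0]] 3 [.cj 34, .cj 28, .wd [1, 2, 1, 0, 2, 1, 2, 3, 2, 1]]⟩,
  ⟨[25, 33, 41, 47], [25, 33, 41, 47], .leaf 1 [[0, 0, 1, 1], [0, -2, 2, 2], [1, -2, 2, 3], [0, 0, 0, 2]] 3 [.cj 26, .cj 28, .cj 38, .cj 34, .cj 32, .wd [1, 2, 1, 0, 2, 1, 2, 3, 2, 1]]⟩,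
  ⟨[25, 33, 41, 47], [25, 33, 41], .split 47 978 979⟩,
  ⟨[25, 33, 41, 47], [25, 33], .split 41 977 980⟩,
  ⟨[25, 33, 41, 44, 47], [25, 33], .kill 40 44 981 0⟩,
  ⟨[25, 33, 37, 41, 44, 47], [25, 33], .kill 30 37 982 0⟩,
  ⟨[25, 33, 37, 40, 41, 44, 47], [25, 33], .zero 44 40 983⟩,
  ⟨[25, 33, 36, 37, 40, 41, 44, 47], [25, 33], .kill 29 36 984 0⟩,
  ⟨[25, 33, 36, 37, 40, 41, 44, 47], [25], .split 33 974 985⟩,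
  ⟨[25, 30], [25, 30], .leaf 1 [[-1, -1], [-1, 0], [0, 0], [0, 0]] 2 [.cj 27, .wd [0, 1, 3, 2, 1, 0, 2, 1, 3]]⟩,
  ⟨[25, 30, 47], [25, 30, 47], .leaf 1 [[-1, -1, -2], [-1, 0, -1], [0, 0, 0], [0, 0, 2]] 3 [.cj 27, .wd [1, 2, 3, 0, 1], .cj 35, .cj 27, .wd [1, 2, 1, 2]]⟩,
  ⟨[25, 30, 47], [25, 30], .split 47 987 988⟩,
  ⟨[25, 30, 44], [25, 30, 44], .leaf 1 [[0, 0, 2], [0, 1, 2], [1, 1, 2], [0, 0, 0]] 3 [.wd [3, 2, 1, 0], .cj 30, .cj 33, .cj 24, .wd [1, 2, 1, 0, 2, 3, 2]]⟩,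
  ⟨[25, 30, 44, 47], [25, 30, 44, 47], .leaf 1 [[0, 0, 2, 0], [0, 1, 2, 1], [1, 1, 2, 2], [0, 0, 0, 2]] 3 [.cj 36, .cj 27, .wd [3, 2, 1, 0], .cj 41, .cj 36, .cj 24, .wd [1, 2, 1, 0, 2, 3, 2]]⟩,
  ⟨[25, 30, 44, 47], [25, 30, 44], .split 47 990 991⟩,
  ⟨[25, 30, 44, 47], [25, 30], .split 44 989 992⟩,
  ⟨[25, 30, 41], [25, 30, 41], .leaf 1 [[0, 0, 1], [0, 1, 1], [1, 1, 1], [0, 0, 0]] 3 [.cj 27, .wd [0, 1], .cj 33, .cj 27, .wd [1, 2, 1, 0, 2, 1, 2, 3]]⟩,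
  ⟨[25, 30, 41, 47], [25, 30, 41, 47], .leaf 1 [[0, 0, 1, 1], [0, 1, 1, 2], [1, 1, 1, 3], [0, 0, 0, 2]] 3 [.cj 27, .cj 32, .wd [0, 1], .cj 27, .cj 36, .cj 33, .cj 31, .wd [1, 2, 1, 0, 2, 1, 2, 3]]⟩,
  ⟨[25, 30, 41, 47], [25, 30, 41], .split 47 994 995⟩,
  ⟨[25, 30, 41, 44, 47], [25, 30, 41], .kill 29 44 996 0⟩,
  ⟨[25, 30, 41, 44, 47], [25, 30], .split 41 993 997⟩,
  ⟨[25, 30, 40, 41, 44, 47], [25, 30], .kill 36 40 998 0⟩]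

/-- Some nodes. -/
def nodes5 : List Node := [
  ⟨[25, 30, 37, 40, 41, 44, 47], [25, 30], .kill 33 37 999 0⟩,
  ⟨[25, 30, 36, 37, 40, 41, 44, 47], [25, 30], .zero 40 36 1000⟩,
  ⟨[25, 30, 33, 36, 37, 40, 41, 44, 47], [25, 30], .zero 37 33 1001⟩,
  ⟨[25, 30, 33, 36, 37, 40, 41, 44, 47], [25], .split 30 986 1002⟩,
  ⟨[25, 29], [25, 29], .leaf 0 [[-1, -1], [0, 0], [0, 0], [-1, 0]] 3 [.wd [1, 2, 1, 0, 3, 2, 1, 0]]⟩,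
  ⟨[25, 29, 47], [25, 29, 47], .leaf 1 [[0, -2, 2], [-1, 0, -1], [0, 0, 0], [0, 0, 2]] 3 [.cj 38, .cj 35, .wd [1, 2, 1, 0, 3, 2, 1, 0]]⟩,
  ⟨[25, 29, 47], [25, 29], .split 47 1004 1005⟩,
  ⟨[25, 29, 30], [25, 29, 30], .leaf 1 [[0, -2, 0], [0, -2, 1], [1, -2, 1], [0, 0, 0]] 3 [.wd [3], .cj 25, .cj 27, .cj 24, .wd [1, 2, 1, 0, 2, 3, 2, 1, 0]]⟩,
  ⟨[25, 29, 30, 47], [25, 29, 30, 47], .leaf 1 [[0, -2, 0, 2], [0, -2, 1, 3], [1, -2, 1, 4], [0, 0, 0, 2]] 3 [.cj 26, .cj 36, .wd [3], .cj 38, .cj 27, .cj 24, .wd [1, 2, 1, 0, 2, 3, 2, 1, 0]]⟩,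
  ⟨[25, 29, 30, 47], [25, 29, 30], .split 47 1007 1008⟩,
  ⟨[25, 29, 30, 47], [25, 29], .split 30 1006 1009⟩,
  ⟨[25, 29, 30, 44, 47], [25, 29], .kill 41 44 1010 0⟩,
  ⟨[25, 29, 30, 40, 44, 47], [25, 29], .kill 37 40 1011 0⟩,
  ⟨[25, 29, 30, 40, 41, 44, 47], [25, 29], .zero 44 41 1012⟩,
  ⟨[25, 29, 30, 37, 40, 41, 44, 47], [25, 29], .zero 40 37 1013⟩,
  ⟨[25, 29, 30, 36, 37, 40, 41, 44, 47], [25, 29], .kill 33 36 1014 0⟩,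
  ⟨[25, 29, 30, 33, 36, 37, 40, 41, 44, 47], [25, 29], .zero 36 33 1015⟩,
  ⟨[25, 29, 30, 33, 36, 37, 40, 41, 44, 47], [25], .split 29 1003 1016⟩,
  ⟨[25, 29, 30, 33, 36, 37, 40, 41, 44, 46, 47], [25], .kill 45 46 1017 0⟩,
  ⟨[25, 29, 30, 33, 36, 37, 40, 41, 44, 45, 46, 47], [25], .zero 46 45 1018⟩,
  ⟨[25, 29, 30, 33, 36, 37, 40, 41, 43, 44, 45, 46, 47], [25], .kill 42 43 1019 0⟩,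
  ⟨[25, 29, 30, 33, 36, 37, 39, 40, 41, 43, 44, 45, 46, 47], [25], .kill 38 39 1020 0⟩,
  ⟨[25, 29, 30, 33, 36, 37, 38, 39, 40, 41, 43, 44, 45, 46, 47], [25], .zero 39 38 1021⟩,
  ⟨[25, 29, 30, 33, 35, 36, 37, 38, 39, 40, 41, 43, 44, 45, 46, 47], [25], .kill 34 35 1022 0⟩,
  ⟨[25, 29, 30, 33, 35, 36, 37, 38, 39, 40, 41, 42, 43, 44, 45, 46, 47], [25], .zero 43 42 1023⟩,
  ⟨[25, 29, 30, 32, 33, 35, 36, 37, 38, 39, 40, 41, 42, 43, 44, 45, 46, 47], [25], .kill 31 32 1024 0⟩,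
  ⟨[25, 29, 30, 32, 33, 34, 35, 36, 37, 38, 39, 40, 41, 42, 43, 44, 45, 46, 47], [25], .zero 35 34 1025⟩,
  ⟨[25, 28, 29, 30, 32, 33, 34, 35, 36, 37, 38, 39, 40, 41, 42, 43, 44, 45, 46, 47], [25], .kill 27 28 1026 0⟩,
  ⟨[25, 28, 29, 30, 31, 32, 33, 34, 35, 36, 37, 38, 39, 40, 41, 42, 43, 44, 45, 46, 47], [25], .zero 32 31 1027⟩,
  ⟨[25, 26, 28, 29, 30, 31, 32, 33, 34, 35, 36, 37, 38, 39, 40, 41, 42, 43, 44, 45, 46, 47], [25], .kill 24 26 1028 0⟩,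
  ⟨[25, 26, 27, 28, 29, 30, 31, 32, 33, 34, 35, 36, 37, 38, 39, 40, 41, 42, 43, 44, 45, 46, 47], [25], .zero 28 27 1029⟩,
  ⟨[25, 26, 27, 28, 29, 30, 31, 32, 33, 34, 35, 36, 37, 38, 39, 40, 41, 42, 43, 44, 45, 46, 47], [], .split 25 932 1030⟩,
  ⟨[24], [24], .leaf 0 [[0], [0], [-1], [0]] 0 [.wd [3, 2, 1, 0, 2, 1, 2]]⟩,
  ⟨[24, 45], [24, 45], .leaf 1 [[0, 0], [-1, 1], [-2, 0], [0, 0]] 2 [.cj 37, .wd [3, 2, 1, 0, 2, 1, 2]]⟩,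
  ⟨[24, 45], [24], .split 45 1032 1033⟩,
  ⟨[24, 44], [24, 44], .leaf 0 [[0, 1], [0, 0], [-1, 0], [0, 0]] 3 [.wd [1, 0, 2, 1, 2]]⟩,
  ⟨[24, 44, 45], [24, 44, 45], .leaf 1 [[0, 2, 0], [-1, 0, 1], [-2, 0, 0], [0, 0, 0]] 3 [.wd [1, 2, 0], .cj 35, .cj 27, .wd [1, 2, 1, 0]]⟩,
  ⟨[24, 44, 45], [24, 44], .split 45 1035 1036⟩,
  ⟨[24, 44, 45], [24], .split 44 1034 1037⟩,
  ⟨[24, 43], [24, 43], .leaf 1 [[1, 1], [0, 0], [-2, 0], [0, 0]] 2 [.cj 35, .wd [0, 3, 2, 1, 0, 2, 1, 2]]⟩,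
  ⟨[24, 43, 45], [24, 43, 45], .leaf 1 [[0, 1, 1], [-1, 0, 1], [-2, 0, 0], [0, 0, 0]] 3 [.cj 27, .wd [1, 2, 0, 1], .cj 35, .cj 27, .wd [1, 2, 1, 0]]⟩,
  ⟨[24, 43, 45], [24, 43], .split 45 1039 1040⟩,
  ⟨[24, 43, 44, 45], [24, 43], .kill 27 44 1041 0⟩,
  ⟨[24, 43, 44, 45], [24], .split 43 1038 1042⟩,
  ⟨[24, 40], [24, 40], .leaf 0 [[0, -1], [0, 0], [-1, 0], [0, 0]] 3 [.wd [1, 0, 2, 1, 0, 2]]⟩,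
  ⟨[24, 40, 45], [24, 40, 45], .leaf 1 [[-1, -2, 1], [-1, 0, 1], [-2, 0, 0], [0, 0, 0]] 3 [.wd [1, 2], .cj 35, .cj 27, .wd [1, 2, 1, 0]]⟩,
  ⟨[24, 40, 45], [24, 40], .split 45 1044 1045⟩,
  ⟨[24, 40, 43], [24, 40, 43], .leaf 1 [[0, -2, 0], [0, 0, 0], [0, 4, 2], [1, 2, 1]] 3 [.wd [2, 1], .cj 24, .cj 37, .cj 25, .wd [1, 0, 2, 1, 0, 2, 1, 2]]⟩,
  ⟨[24, 40, 43, 45], [24, 40, 43, 45], .leaf 1 [[0, 0, 1, 1], [0, 2, 1, 1], [0, 4, 2, 0], [1, 2, 1, 0]] 3 [.cj 26, .cj 27, .wd [2, 1], .cj 37, .cj 35, .cj 25, .wd [1, 0, 2, 1, 0, 2, 1, 2]]⟩,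
  ⟨[24, 40, 43, 45], [24, 40, 43], .split 45 1047 1048⟩,
  ⟨[24, 40, 43, 45], [24, 40], .split 43 1046 1049⟩,
  ⟨[24, 40, 43, 44, 45], [24, 40], .kill 33 44 1050 0⟩,
  ⟨[24, 40, 43, 44, 45], [24], .split 40 1043 1051⟩,
  ⟨[24, 39], [24, 39], .leaf 0 [[0, 0], [-1, -1], [-1, 0], [0, 0]] 3 [.wd [1, 0, 2, 1, 0, 2, 1]]⟩,
  ⟨[24, 39, 45], [24, 39, 45], .leaf 1 [[0, 0, 0], [0, 2, 2], [0, 4, 2], [1, 2, 1]] 3 [.wd [2], .cj 24, .cj 37, .cj 25, .wd [1, 0, 2, 1, 0, 2, 1, 2]]⟩,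
  ⟨[24, 39, 45], [24, 39], .split 45 1053 1054⟩,
  ⟨[24, 39, 43], [24, 39, 43], .leaf 1 [[-1, -2, 1], [-2, -2, 0], [-2, 0, 0], [0, 0, 0]] 3 [.wd [1, 2], .cj 33, .cj 27, .wd [1, 2, 1, 0, 2, 1, 2]]⟩,
  ⟨[24, 39, 43, 45], [24, 39, 43, 45], .leaf 1 [[0, 0, 1, 1], [0, 2, 0, 2], [0, 4, 0, 2], [1, 2, 0, 1]] 3 [.cj 26, .cj 35, .wd [1, 2], .cj 27, .cj 35, .cj 30, .wd [1, 2, 1, 0, 2, 1, 2]]⟩,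
  ⟨[24, 39, 43, 45], [24, 39, 43], .split 45 1056 1057⟩,
  ⟨[24, 39, 43, 45], [24, 39], .split 43 1055 1058⟩,
  ⟨[24, 39, 43, 44, 45], [24, 39], .kill 34 44 1059 0⟩,
  ⟨[24, 39, 40, 43, 44, 45], [24, 39], .kill 27 40 1060 0⟩,
  ⟨[24, 39, 40, 43, 44, 45], [24], .split 39 1052 1061⟩,
  ⟨[24, 34], [24, 34], .leaf 0 [[-1, 1], [0, 0], [-1, 0], [0, 0]] 3 [.wd [1, 2, 1, 0, 2, 3, 2, 1, 2]]⟩,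
  ⟨[24, 34, 45], [24, 34, 45], .leaf 1 [[-1, 2, -1], [-1, 0, 1], [-2, 0, 0], [0, 0, 0]] 3 [.cj 37, .cj 29, .wd [1, 2, 1, 0, 2, 3, 2, 1, 2]]⟩,
  ⟨[24, 34, 45], [24, 34], .split 45 1063 1064⟩,
  ⟨[24, 34, 43], [24, 34, 43], .leaf 1 [[0, 0, 0], [0, -2, -2], [0, -4, -2], [1, -2, -1]] 3 [.cj 41, .cj 35, .cj 26, .wd [1, 2, 1, 0, 2, 3, 2, 1, 2]]⟩,
  ⟨[24, 34, 43, 45], [24, 34, 43, 45], .leaf 1 [[0, 0, 1, 1], [0, -2, 1, 3], [0, -4, 2, 4], [1, -2, 1, 2]] 3 [.cj 27, .cj 26, .cj 41, .cj 39, .cj 35, .wd [1, 2, 1, 0, 2, 3, 2, 1, 2]]⟩,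
  ⟨[24, 34, 43, 45], [24, 34, 43], .split 45 1066 1067⟩,
  ⟨[24, 34, 43, 45], [24, 34], .split 43 1065 1068⟩,
  ⟨[24, 34, 43, 44, 45], [24, 34], .kill 39 44 1069 0⟩,
  ⟨[24, 34, 40, 43, 44, 45], [24, 34], .kill 32 40 1070 0⟩,
  ⟨[24, 34, 39, 40, 43, 44, 45], [24, 34], .zero 44 39 1071⟩,
  ⟨[24, 34, 39, 40, 43, 44, 45], [24], .split 34 1062 1072⟩,
  ⟨[24, 33], [24, 33], .leaf 0 [[0, 0], [0, -1], [-1, 0], [0, 0]] 3 [.wd [1, 2, 1, 0, 2, 1, 3, 2, 1, 2]]⟩,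
  ⟨[24, 33, 45], [24, 33, 45], .leaf 1 [[0, 1, 0], [0, 0, 0], [0, 0, -2], [1, 0, -1]] 3 [.cj 41, .cj 37, .cj 31, .wd [1, 2, 1, 0, 2, 1, 3, 2, 1, 2]]⟩,
  ⟨[24, 33, 45], [24, 33], .split 45 1074 1075⟩,
  ⟨[24, 33, 43], [24, 33, 43], .leaf 1 [[-1, 2, -1], [-2, 2, -2], [-2, 0, 0], [0, 0, 0]] 3 [.cj 35, .cj 29, .wd [1, 2, 1, 0, 2, 1, 3, 2, 1, 2]]⟩,
  ⟨[24, 33, 43, 45], [24, 33, 43, 45], .leaf 1 [[0, 0, 1, 1], [0, -2, 2, 2], [0, -4, 4, 2], [1, -2, 2, 1]] 3 [.cj 29, .cj 35, .cj 41, .cj 37, .cj 31, .wd [1, 2, 1, 0, 2, 1, 3, 2, 1, 2]]⟩,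
  ⟨[24, 33, 43, 45], [24, 33, 43], .split 45 1077 1078⟩,
  ⟨[24, 33, 43, 45], [24, 33], .split 43 1076 1079⟩,
  ⟨[24, 33, 43, 44, 45], [24, 33], .kill 40 44 1080 0⟩,
  ⟨[24, 33, 39, 43, 44, 45], [24, 33], .kill 32 39 1081 0⟩,
  ⟨[24, 33, 39, 40, 43, 44, 45], [24, 33], .zero 44 40 1082⟩,
  ⟨[24, 33, 34, 39, 40, 43, 44, 45], [24, 33], .kill 27 34 1083 0⟩,
  ⟨[24, 33, 34, 39, 40, 43, 44, 45], [24], .split 33 1073 1084⟩,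
  ⟨[24, 32], [24, 32], .leaf 1 [[-1, -1], [0, 0], [-2, 0], [0, 0]] 2 [.cj 28, .wd [0, 1, 3, 2, 1, 0, 2, 1, 2]]⟩,
  ⟨[24, 32, 45], [24, 32, 45], .leaf 1 [[-1, -1, 0], [-1, 0, 1], [-2, 0, 0], [0, 0, 0]] 3 [.cj 28, .wd [0, 1, 2, 1], .cj 33, .cj 27, .wd [1, 2, 1, 0, 2, 1, 2]]⟩,
  ⟨[24, 32, 45], [24, 32], .split 45 1086 1087⟩,
  ⟨[24, 32, 44], [24, 32, 44], .leaf 1 [[0, 0, 2], [0, 0, 0], [0, 2, 4], [1, 1, 2]] 3 [.wd [2, 1, 0], .cj 24, .cj 37, .cj 25, .wd [1, 0, 2, 1, 0, 2, 1, 2]]⟩,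
  ⟨[24, 32, 44, 45], [24, 32, 44, 45], .leaf 1 [[0, 0, 2, 0], [0, 1, 2, 1], [0, 2, 4, 0], [1, 1, 2, 0]] 3 [.cj 26, .cj 34, .wd [2, 1, 0], .cj 37, .cj 35, .cj 25, .wd [1, 0, 2, 1, 0, 2, 1, 2]]⟩,
  ⟨[24, 32, 44, 45], [24, 32, 44], .split 45 1089 1090⟩,
  ⟨[24, 32, 44, 45], [24, 32], .split 44 1088 1091⟩,
  ⟨[24, 32, 43], [24, 32, 43], .leaf 1 [[-1, -1, 0], [-2, -1, -1], [-2, 0, 0], [0, 0, 0]] 3 [.cj 28, .wd [0, 1, 2], .cj 33, .cj 27, .wd [1, 2, 1, 0, 2, 1, 2]]⟩,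
  ⟨[24, 32, 43, 45], [24, 32, 43, 45], .leaf 1 [[0, 0, 1, 1], [0, 1, 1, 2], [0, 2, 2, 2], [1, 1, 1, 1]] 3 [.cj 26, .cj 27, .cj 33, .wd [2, 1, 0], .cj 37, .cj 28, .cj 25, .wd [1, 0, 2, 1, 0, 2, 1, 2]]⟩,
  ⟨[24, 32, 43, 45], [24, 32, 43], .split 45 1093 1094⟩,
  ⟨[24, 32, 43, 44, 45], [24, 32, 43], .kill 27 44 1095 0⟩,
  ⟨[24, 32, 43, 44, 45], [24, 32], .split 43 1092 1096⟩,
  ⟨[24, 32, 40, 43, 44, 45], [24, 32], .kill 34 40 1097 0⟩,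
  ⟨[24, 32, 39, 40, 43, 44, 45], [24, 32], .kill 33 39 1098 0⟩,
  ⟨[24, 32, 34, 39, 40, 43, 44, 45], [24, 32], .zero 40 34 1099⟩,
  ⟨[24, 32, 33, 34, 39, 40, 43, 44, 45], [24, 32], .zero 39 33 1100⟩,
  ⟨[24, 32, 33, 34, 39, 40, 43, 44, 45], [24], .split 32 1085 1101⟩,
  ⟨[24, 27], [24, 27], .leaf 0 [[1, -1], [0, 0], [-1, 0], [0, 0]] 3 [.wd [1, 2, 1, 0, 2, 3, 2, 1, 0, 2]]⟩,
  ⟨[24, 27, 45], [24, 27, 45], .leaf 1 [[0, -2, 2], [-1, 0, 1], [-2, 0, 0], [0, 0, 0]] 3 [.cj 37, .cj 36, .wd [1, 2, 1, 0, 2, 3, 2, 1, 0, 2]]⟩,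
  ⟨[24, 27, 45], [24, 27], .split 45 1103 1104⟩,
  ⟨[24, 27, 32], [24, 27, 32], .leaf 1 [[0, 0, 0], [0, 1, 1], [0, 0, 2], [1, 0, 1]] 3 [.cj 30, .cj 28, .cj 26, .wd [1, 2, 1, 0, 2, 3, 2, 1, 0, 2]]⟩,
  ⟨[24, 27, 32, 45], [24, 27, 32, 45], .leaf 1 [[0, -2, 0, 2], [0, -2, 1, 3], [0, -4, 2, 4], [1, -2, 1, 2]] 3 [.cj 30, .cj 34, .cj 39, .cj 28, .cj 26, .wd [1, 2, 1, 0, 2, 3, 2, 1, 0, 2]]⟩,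
  ⟨[24, 27, 32, 45], [24, 27, 32], .split 45 1106 1107⟩,
  ⟨[24, 27, 32, 45], [24, 27], .split 32 1105 1108⟩,
  ⟨[24, 27, 32, 44, 45], [24, 27], .kill 43 44 1109 0⟩,
  ⟨[24, 27, 32, 40, 44, 45], [24, 27], .kill 39 40 1110 0⟩,
  ⟨[24, 27, 32, 40, 43, 44, 45], [24, 27], .zero 44 43 1111⟩,
  ⟨[24, 27, 32, 39, 40, 43, 44, 45], [24, 27], .zero 40 39 1112⟩,
  ⟨[24, 27, 32, 34, 39, 40, 43, 44, 45], [24, 27], .kill 33 34 1113 0⟩,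
  ⟨[24, 27, 32, 33, 34, 39, 40, 43, 44, 45], [24, 27], .zero 34 33 1114⟩,
  ⟨[24, 27, 32, 33, 34, 39, 40, 43, 44, 45], [24], .split 27 1102 1115⟩,
  ⟨[24, 27, 32, 33, 34, 39, 40, 43, 44, 45, 47], [24], .kill 46 47 1116 0⟩,
  ⟨[24, 27, 32, 33, 34, 39, 40, 43, 44, 45, 46, 47], [24], .zero 47 46 1117⟩,
  ⟨[24, 27, 32, 33, 34, 39, 40, 42, 43, 44, 45, 46, 47], [24], .kill 41 42 1118 0⟩,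
  ⟨[24, 27, 32, 33, 34, 38, 39, 40, 42, 43, 44, 45, 46, 47], [24], .kill 37 38 1119 0⟩,
  ⟨[24, 27, 32, 33, 34, 37, 38, 39, 40, 42, 43, 44, 45, 46, 47], [24], .zero 38 37 1120⟩,
  ⟨[24, 27, 32, 33, 34, 36, 37, 38, 39, 40, 42, 43, 44, 45, 46, 47], [24], .kill 35 36 1121 0⟩,
  ⟨[24, 27, 32, 33, 34, 36, 37, 38, 39, 40, 41, 42, 43, 44, 45, 46, 47], [24], .zero 42 41 1122⟩,
  ⟨[24, 27, 31, 32, 33, 34, 36, 37, 38, 39, 40, 41, 42, 43, 44, 45, 46, 47], [24], .kill 30 31 1123 0⟩,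
  ⟨[24, 27, 31, 32, 33, 34, 35, 36, 37, 38, 39, 40, 41, 42, 43, 44, 45, 46, 47], [24], .zero 36 35 1124⟩,
  ⟨[24, 27, 29, 31, 32, 33, 34, 35, 36, 37, 38, 39, 40, 41, 42, 43, 44, 45, 46, 47], [24], .kill 28 29 1125 0⟩,
  ⟨[24, 27, 29, 30, 31, 32, 33, 34, 35, 36, 37, 38, 39, 40, 41, 42, 43, 44, 45, 46, 47], [24], .zero 31 30 1126⟩,
  ⟨[24, 27, 28, 29, 30, 31, 32, 33, 34, 35, 36, 37, 38, 39, 40, 41, 42, 43, 44, 45, 46, 47], [24], .zero 29 28 1127⟩,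
  ⟨[24, 26, 27, 28, 29, 30, 31, 32, 33, 34, 35, 36, 37, 38, 39, 40, 41, 42, 43, 44, 45, 46, 47], [24], .kill 25 26 1128 0⟩,
  ⟨[24, 25, 26, 27, 28, 29, 30, 31, 32, 33, 34, 35, 36, 37, 38, 39, 40, 41, 42, 43, 44, 45, 46, 47], [24], .zero 26 25 1129⟩,
  ⟨[24, 25, 26, 27, 28, 29, 30, 31, 32, 33, 34, 35, 36, 37, 38, 39, 40, 41, 42, 43, 44, 45, 46, 47], [], .split 24 1031 1130⟩]

/-- All nodes. -/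
def f4Tab : List Node := nodes0 ++ nodes1 ++ nodes2 ++ nodes3 ++ nodes4 ++ nodes5

end F4Invol

end Cfsg.Agent.Chev
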