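import Cfsg.Agent.Chev.F4Invol.Tree
import Cfsg.Agent.Chev.F4Invol.RankData
import Cfsg.Agent.Chev.All

/-!
The four classes of involutions of `chevF4` in characteristic two.
-/

set_option autoImplicit false
set_option maxRecDepth 100000

namespace Cfsg.Agent.Chev

open Cfsg.Lie

universe u

namespace F4Invol

open OrthInvol (XL CjS)

variable {F : Type u} [Field F] [CharP F 2]

local notation "hF4" => facts_chevF4

/-- The two invariants of the representatives. -/
theorem f4_spec {k : ℕ} (hk : k < 4) :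
    (((XL hF4 (f4Reps.getD k []) : GL chevF4.Idx F) : Matrix chevF4.Idx chevF4.Idx F) - 1).rank =
        ([16, 16, 21, 24] : List ℕ).getD k 0 ∧
      ((((XL hF4 (f4Reps.getD k []) : GL chevF4.Idx F) : Matrix chevF4.Idx chevF4.Idx F) - 1) *
        UniCert.proj chevF4 F f4Sel).rank = ([6, 10, 10, 12] : List ℕ).getD k 0 := by
  have h := f4_rank_chk
  simp only [allBelow_iff, force_eq, Bool.and_eq_true] at h
  obtain ⟨h1, h2⟩ := h k hk
  rw [OrthInvol.rank_eq_of_chk hF4 f4_checks h1, UniCert.rank_sel_eq_of_chk hF4 f4_checks h2]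
  interval_cases k <;> exact ⟨rfl, rfl⟩

theorem eq_of_cj {i j : ℕ} (hi : i < 4) (hj : j < 4)
    (h : CjS (chevF4.group F) (XL hF4 (f4Reps.getD i []) : GL chevF4.Idx F)
      (XL hF4 (f4Reps.getD j []))) : i = j := by
  have e1 := OrthInvol.rank_conj h
  have e2 := UniCert.rank_proj_conj hF4 f4_checks f4_inv_chk h
  rw [(f4_spec hi).1, (f4_spec hj).1] at e1
  rw [(f4_spec hi).2, (f4_spec hj).2] at e2
  interval_cases i <;> interval_cases j <;> simp_all

theorem rep_ne_one {k : ℕ} (hk : k < 4) : (XL hF4 (f4Reps.getD k []) : GL chevF4.Idx F) ≠ 1 := by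
  intro e
  have := (f4_spec (F := F) hk).1
  rw [e, Units.val_one, sub_self, Matrix.rank_zero] at this
  interval_cases k <;> simp at this

theorem rep_sq_check : ∀ k < 4,
    (OrthInvol.suppW chevF4 (f4Reps.getD k [] ++ f4Reps.getD k [])).isEmpty = true := by
  decide +kernel

theorem rep_bound : ∀ k < 4, ∀ r ∈ f4Reps.getD k [], r < chevF4.nroots := by decide +kernel

theorem rep_sq {k : ℕ} (hk : k < 4) :
    (XL hF4 (f4Reps.getD k []) : GL chevF4.Idx F) * XL hF4 (f4Reps.getD k []) = 1 := by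
  have e := List.isEmpty_iff.1 (rep_sq_check k hk)
  have := OrthInvol.wordC_suppW hF4 (f4Reps.getD k [] ++ f4Reps.getD k []) (F := F)
  rw [e] at this
  simpa [XL, wordG, List.map_append, List.prod_append] using this

variable [Fintype F]

/-- The three clauses on the four representatives. -/
theorem classes (Ms : List (Matrix chevF4.Idx chevF4.Idx F))
    (hMs : Ms = (List.range 4).map fun k =>
      ((XL hF4 (f4Reps.getD k []) : GL chevF4.Idx F) : Matrix chevF4.Idx chevF4.Idx F)) :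
    (∀ y : GL chevF4.Idx F, (y : Matrix chevF4.Idx chevF4.Idx F) ∈ Ms →
      y ∈ chevF4.group F ∧ orderOf y = 2) ∧
    (∀ g ∈ chevF4.group F, orderOf g = 2 → ∃ y ∈ chevF4.group F,
      (y : Matrix chevF4.Idx chevF4.Idx F) ∈ Ms ∧ ∃ h ∈ chevF4.group F, h * g * h⁻¹ = y) ∧
    (∀ y₁ ∈ chevF4.group F, ∀ y₂ ∈ chevF4.group F, (y₁ : Matrix chevF4.Idx chevF4.Idx F) ∈ Ms →
      (y₂ : Matrix chevF4.Idx chevF4.Idx F) ∈ Ms → (∃ h ∈ chevF4.group F, h * y₁ * h⁻¹ = y₂) →
      (y₁ : Matrix chevF4.Idx chevF4.Idx F) = (y₂ : Matrix chevF4.Idx chevF4.Idx F)) := by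
  have hmem : ∀ y : GL chevF4.Idx F, (y : Matrix chevF4.Idx chevF4.Idx F) ∈ Ms →
      ∃ k < 4, y = XL hF4 (f4Reps.getD k []) := by
    intro y hy
    rw [hMs, List.mem_map] at hy
    obtain ⟨k, hk, e⟩ := hy
    exact ⟨k, List.mem_range.1 hk, Units.ext e.symm⟩
  refine ⟨fun y hy => ?_, fun g hg ho => ?_, fun y₁ _ y₂ _ h1 h2 hc => ?_⟩
  · obtain ⟨k, hk, rfl⟩ := hmem y hy
    refine ⟨OrthInvol.XL_mem hF4 (rep_bound k hk), ?_⟩
    rw [orderOf_eq_prime_iff, pow_two]
    exact ⟨rep_sq hk, rep_ne_one hk⟩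
  · obtain ⟨h1, h2⟩ := orderOf_eq_prime_iff.1 ho
    rw [pow_two] at h1
    obtain ⟨hh, hn⟩ := f4_half
    obtain ⟨k, hk, e, he, he'⟩ := UniCert.invol_reps hF4 f4_checks f4_tree
      (by rw [hh, hn]; exact f4_top.1) f4_top.2 hg h1 h2
    refine ⟨_, OrthInvol.XL_mem hF4 (rep_bound k hk), ?_, e, he, he'⟩
    rw [hMs, List.mem_map]
    exact ⟨k, List.mem_range.2 hk, rfl⟩
  · obtain ⟨i, hi, rfl⟩ := hmem y₁ h1
    obtain ⟨j, hj, rfl⟩ := hmem y₂ h2
    rw [eq_of_cj hi hj hc]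

end F4Invol

end Cfsg.Agent.Chev
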