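import Cfsg.Agent.Chev.OrthInvol.Rank

/-!
The rank of `(g - 1) * p` in characteristic two, for a coordinate projection `p` on a subspace
stable under all root elements.
-/

set_option autoImplicit false
set_option maxRecDepth 100000
set_option maxHeartbeats 1000000

namespace Cfsg.Agent.Chev

open Cfsg.Lie

universe u

namespace UniCert

open OrthInvol (XL CjS tb colW xsel xpiv pivOk allIdx bitF)

/-- The root elements map the coordinate subspace to itself. -/
noncomputable def chkInv (D : ChevalleyDatum) (C : Cert) (sel : List ℕ) : Bool :=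
  allBelow (fun r => sel.all fun c => (colOf D C.T r c).all fun q =>
    sel.contains q.1 || zbeq (Int.emod q.2.2 2) 0) D.nroots

/-- The certificate for the rank on the subspace. -/
noncomputable def chkRankSel (D : ChevalleyDatum) (C : Cert) (sel L G : List ℕ)
    (B : List (ℕ × ℕ × ℕ)) : Bool :=
  Nat.beq G.length (Nat.add D.rank D.nroots) &&
  L.all (fun r => Nat.blt r D.nroots) &&
  allIdx (fun c v => Nat.beq v (cond (sel.contains c) (Nat.xor (colW D C L c) (Nat.pow 2 c)) 0)) G 0 &&
  G.all (fun v => Nat.beq v (xpiv v B)) &&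
  B.all (fun b => Nat.beq b.1 (xsel (tb b.2.2) G 0) &&
    Nat.blt b.2.1 (Nat.add D.rank D.nroots)) &&
  pivOk B

variable {D : ChevalleyDatum} {F : Type u} [Field F]

/-- The projection. -/
def proj (D : ChevalleyDatum) (F : Type u) [Field F] (sel : List ℕ) : Matrix D.Idx D.Idx F :=
  Matrix.diagonal fun j => if enc D j ∈ sel then 1 else 0

/-- Stability of the coordinate subspace. -/
def Stable (sel : List ℕ) (g : GL D.Idx F) : Prop :=
  ∀ i j : D.Idx, enc D j ∈ sel → enc D i ∉ sel → (g : Matrix D.Idx D.Idx F) i j = 0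

theorem Stable.mul {sel : List ℕ} {g h : GL D.Idx F} (hg : Stable sel g) (hh : Stable sel h) :
    Stable sel (g * h) := fun i j hj hi => by
  rw [Units.val_mul, Matrix.mul_apply]
  refine Finset.sum_eq_zero fun k _ => ?_
  by_cases hk : enc D k ∈ sel
  · rw [hg i k hk hi, zero_mul]
  · rw [hh k j hj hk, mul_zero]

theorem Stable.mul_proj {sel : List ℕ} {g : GL D.Idx F} (hg : Stable sel g) :
    (g : Matrix D.Idx D.Idx F) * proj D F sel = proj D F sel * g * proj D F sel := by
  ext i j
  simp only [proj, Matrix.mul_diagonal, Matrix.diagonal_mul]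
  by_cases hj : enc D j ∈ sel
  · by_cases hi : enc D i ∈ sel
    · simp [hi]
    · simp [hg i j hj hi]
  · simp [hj]

variable [CharP F 2] (hF : Facts.{u} D) {C : Cert} (hC : Checks D C)

include hF hC in
theorem stable_group {sel : List ℕ} (hsel : chkInv D C sel = true) {g : GL D.Idx F}
    (hg : g ∈ D.group F) : Stable sel g ∧ Stable sel g⁻¹ := by
  simp only [chkInv, allBelow_iff, List.all_eq_true, Bool.or_eq_true, zbeq_iff,
    List.contains_iff_mem] at hsel
  have hx : ∀ (r : ℕ) (t : F), r < D.nroots → Stable sel (xG hF r t) := by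
    intro r t hr i j hj hi
    rw [xG_val, x_apply hC.tab F hr, if_neg (fun e : i = j => hi (e ▸ hj)), zero_add]
    have key : ∀ L : List (ℕ × ℕ × ℤ), (∀ q ∈ L, q.1 ∈ sel ∨ Int.emod q.2.2 2 = 0) →
        colVal t (enc D i) L = 0 := by
      intro L
      induction L with
      | nil => intro _; rfl
      | cons q L ih =>
        intro h
        rw [colVal, ih fun x hx => h x (List.mem_cons_of_mem _ hx), add_zero]
        by_cases e : q.1 = enc D i
        · rcases h q (List.mem_cons_self ..) with h' | h'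
          · exact absurd (e ▸ h') hi
          · rw [if_pos e, (CharP.intCast_eq_zero_iff F 2 _).2 (Int.dvd_of_emod_eq_zero h'), zero_mul]
        · rw [if_neg e]
    exact key _ fun q hq => hsel r hr _ hj q hq
  refine Subgroup.closure_induction (p := fun x _ => Stable sel x ∧ Stable sel x⁻¹) ?_ ?_ ?_ ?_ hg
  · rintro x ⟨⟨r, hr⟩, t, e⟩
    have : x = xG hF r t := Units.ext (by rw [e, xG_val, ChevalleyDatum.x, dif_pos hr])
    subst this
    exact ⟨hx r t hr, by rw [OrthInvol.xG_inv_two]; exact hx r t hr⟩
  · have h1 : Stable sel (1 : GL D.Idx F) := fun i j hj hi => by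
      rw [Units.val_one, Matrix.one_apply_ne (fun e : i = j => hi (e ▸ hj))]
    exact ⟨h1, by rw [inv_one]; exact h1⟩
  · exact fun x y _ _ a b => ⟨a.1.mul b.1, by rw [mul_inv_rev]; exact b.2.mul a.2⟩
  · exact fun x _ a => ⟨a.2, by rw [inv_inv]; exact a.1⟩

include hF hC in
/-- Conjugate elements have equal ranks on the subspace. -/
theorem rank_proj_conj {sel : List ℕ} (hsel : chkInv D C sel = true) {g h : GL D.Idx F}
    (hc : CjS (D.group F) g h) :
    (((g : Matrix D.Idx D.Idx F) - 1) * proj D F sel).rank =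
      (((h : Matrix D.Idx D.Idx F) - 1) * proj D F sel).rank := by
  have key : ∀ (e g h : GL D.Idx F), e ∈ D.group F → e * g * e⁻¹ = h →
      (((h : Matrix D.Idx D.Idx F) - 1) * proj D F sel).rank ≤
        (((g : Matrix D.Idx D.Idx F) - 1) * proj D F sel).rank := by
    intro e g h he heq
    have e1 : (h : Matrix D.Idx D.Idx F) - 1 = (e : Matrix D.Idx D.Idx F) *
        ((g : Matrix D.Idx D.Idx F) - 1) * ((e⁻¹ : GL D.Idx F) : Matrix D.Idx D.Idx F) := by
      rw [← heq, mul_sub, sub_mul, mul_one, Units.val_mul, Units.val_mul, Units.mul_inv]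
    rw [e1, mul_assoc, (stable_group hF hC hsel he).2.mul_proj]
    rw [show (e : Matrix D.Idx D.Idx F) * ((g : Matrix D.Idx D.Idx F) - 1) *
        (proj D F sel * (e⁻¹ : GL D.Idx F) * proj D F sel) =
        (e : Matrix D.Idx D.Idx F) * (((g : Matrix D.Idx D.Idx F) - 1) * proj D F sel) *
          (((e⁻¹ : GL D.Idx F) : Matrix D.Idx D.Idx F) * proj D F sel) by simp only [mul_assoc]]
    exact (Matrix.rank_mul_le_left _ _).trans (Matrix.rank_mul_le_right _ _)
  obtain ⟨e, he, heq⟩ := hc
  exact le_antisymm (key e⁻¹ h g (Subgroup.inv_mem _ he) (by rw [← heq]; group)) (key e g h he heq)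

include hC in
/-- The rank of `(g - 1) * p`. -/
theorem rank_sel_eq_of_chk {sel L G : List ℕ} {B : List (ℕ × ℕ × ℕ)}
    (h : chkRankSel D C sel L G B = true) :
    ((((XL hF L : GL D.Idx F) : Matrix D.Idx D.Idx F) - 1) * proj D F sel).rank = B.length := by
  simp only [chkRankSel, Bool.and_eq_true, nbeq_iff, nblt_iff, List.all_eq_true, Nat.add_eq] at h
  obtain ⟨⟨⟨⟨⟨hlen, hL⟩, hG0⟩, hR0⟩, hB⟩, hP0⟩ := h
  have hG : ∀ c < G.length,
      G.getD c 0 = cond (sel.contains c) (Nat.xor (colW D C L c) (Nat.pow 2 c)) 0 := fun c hc => by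
    have := OrthInvol.allIdx_spec hG0 c hc
    simp only [Nat.zero_add, nbeq_iff] at this
    exact this
  have hR : ∀ c < G.length, G.getD c 0 = xpiv (G.getD c 0) B := fun c hc =>
    hR0 _ (by simp [hc])
  have hP := OrthInvol.pivOk_spec hP0
  set M := (((XL hF L : GL D.Idx F) : Matrix D.Idx D.Idx F) - 1) * proj D F sel with hMdef
  have hM : ∀ i j, M i j = bitF F (G.getD (enc D j) 0) (enc D i) := by
    intro i j
    rw [hG _ (hlen ▸ enc_lt D j), hMdef, proj, Matrix.mul_diagonal]
    by_cases hj : enc D j ∈ sel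
    · rw [List.contains_iff_mem.2 hj, cond_true, if_pos hj, mul_one, OrthInvol.bitF_xor,
        OrthInvol.bitF_two_pow, Matrix.sub_apply, OrthInvol.colW_spec hF hC L hL,
        Matrix.one_apply, sub_eq_add_neg, CharTwo.neg_eq]
      congr 1
      by_cases h : i = j
      · subst h; simp
      · rw [if_neg h, if_neg fun e => h (enc_injective D e).symm]
    · have hj' : sel.contains (enc D j) = false := by simpa using hj
      rw [hj', cond_false, if_neg hj, mul_zero, OrthInvol.bitF_zero]
  set b : Fin B.length → ℕ × ℕ × ℕ := fun m => B.getD m (0, 0, 0) with hb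
  have hbmem : ∀ m : Fin B.length, b m ∈ B := fun m => by
    rw [hb]
    simp
  set Bm : Matrix D.Idx (Fin B.length) F := fun i m => bitF F (b m).1 (enc D i) with hBm
  have e1 : M = Bm * (Matrix.of fun m j => bitF F (G.getD (enc D j) 0) (b m).2.1) := by
    ext i j
    rw [Matrix.mul_apply, hM]
    simp only [Matrix.of_apply]
    conv_lhs => rw [hR _ (hlen ▸ enc_lt D j), OrthInvol.bitF_xpiv]
    exact Finset.sum_congr rfl fun m _ => mul_comm _ _
  have e2 : Bm = M * (Matrix.of fun j m => cond (Nat.testBit (b m).2.2 (enc D j)) (1 : F) 0) := by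
    ext i m
    rw [Matrix.mul_apply]
    have := (hB _ (hbmem m)).1
    show bitF F (b m).1 (enc D i) = _
    rw [this, OrthInvol.bitF_xsel]
    simp only [OrthInvol.tb_eq]
    simp only [Matrix.of_apply, hM, zero_add, mul_comm (bitF F _ (enc D i))]
    rw [← OrthInvol.sum_enc (D := D) fun c =>
      cond (Nat.testBit (b m).2.2 c) (1 : F) 0 * bitF F (G.getD c 0) (enc D i)]
    exact Fintype.sum_equiv (finCongr hlen) _ _ fun c => rfl
  have hrow : ∀ m : Fin B.length, ∃ i : D.Idx, enc D i = (b m).2.1 := fun m =>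
    exists_enc D (hB _ (hbmem m)).2
  choose row hrow using hrow
  have e3 : (1 : Matrix D.Idx D.Idx F).submatrix row id * Bm = 1 := by
    ext m k
    rw [Matrix.mul_apply, Finset.sum_eq_single (row m)]
    · rw [Matrix.submatrix_apply, id, Matrix.one_apply_eq, one_mul]
      show bitF F (b k).1 (enc D (row m)) = _
      rw [hrow, bitF, hb]
      simp only [hP m k, Matrix.one_apply]
      by_cases hmk : m = k <;> simp [hmk]
    · intro j _ hj
      rw [Matrix.submatrix_apply, id, Matrix.one_apply_ne (Ne.symm hj), zero_mul]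
    · exact fun hn => absurd (Finset.mem_univ _) hn
  refine le_antisymm ?_ ?_
  · rw [e1]
    exact (Matrix.rank_mul_le_left _ _).trans ((Matrix.rank_le_card_width _).trans (by simp))
  · calc B.length = (1 : Matrix (Fin B.length) (Fin B.length) F).rank := by simp [Matrix.rank_one]
      _ ≤ Bm.rank := by rw [← e3]; exact Matrix.rank_mul_le_right _ _
      _ ≤ M.rank := by rw [e2]; exact Matrix.rank_mul_le_left _ _

end UniCert

end Cfsg.Agent.Chev
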