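import Cfsg.Agent.Chev.F4Invol.Data
import Cfsg.Agent.Chev.Check.F4

/-! The certificate for `chevF4` is valid. -/

set_option autoImplicit false
set_option maxRecDepth 100000

namespace Cfsg.Agent.Chev

open Cfsg.Lie

namespace F4Invol

theorem f4_tree0 : UniCert.chkRange chevF4 f4Cert f4Reps f4Tab 0 300 = true := by decide +kernel

theorem f4_tree1 : UniCert.chkRange chevF4 f4Cert f4Reps f4Tab 300 300 = true := by decide +kernel

theorem f4_tree2 : UniCert.chkRange chevF4 f4Cert f4Reps f4Tab 600 300 = true := by decide +kernel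

theorem f4_tree3 : UniCert.chkRange chevF4 f4Cert f4Reps f4Tab 900 232 = true := by decide +kernel

theorem f4_tree : ∀ i ≤ 1131,
    UniCert.chkNode chevF4 f4Cert f4Reps f4Tab i (f4Tab.getD i ⟨[], [], .one⟩) = true := by
  intro i hi
  rcases Nat.lt_or_ge i 300 with h | h
  · exact UniCert.chkRange_spec f4_tree0 i (Nat.zero_le _) (by omega)
  rcases Nat.lt_or_ge i 600 with h' | h'
  · exact UniCert.chkRange_spec f4_tree1 i h (by omega)
  rcases Nat.lt_or_ge i 900 with h'' | h''
  · exact UniCert.chkRange_spec f4_tree2 i h' (by omega)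
  · exact UniCert.chkRange_spec f4_tree3 i h'' (by omega)

theorem f4_top : (f4Tab.getD 1131 ⟨[], [], .one⟩).sup = List.range' 24 24 ∧
    (f4Tab.getD 1131 ⟨[], [], .one⟩).nz = [] := by decide +kernel

theorem f4_half : half chevF4 = 24 ∧ chevF4.nroots = 48 := by decide +kernel

end F4Invol

end Cfsg.Agent.Chev
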