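import Cfsg.Agent.Chev.OrthInvol.Classes

/-!
A certificate checker: elements of square one in the positive unipotent subgroup, in characteristic
two, are conjugate to listed products of root elements.
-/

set_option autoImplicit false
set_option maxRecDepth 100000

namespace Cfsg.Agent.Chev

open Cfsg.Lie

universe u

namespace UniCert

open OrthInvol (XL suppW oneW cImg CjS)

/-- A conjugation by a constant root element or by a Weyl word. -/
inductive Mv where
  | cj : ℕ → Mv
  | wd : List ℕ → Mv

/-- How a node is settled. -/
inductive Act where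
  | one : Act
  | zero : ℕ → ℕ → ℕ → Act
  | split : ℕ → ℕ → ℕ → Act
  | kill : ℕ → ℕ → ℕ → ℕ → Act
  | leaf : ℕ → List (List ℤ) → ℕ → List Mv → Act

/-- A node: the possible support, the roots with nonzero parameter, and the action. -/
structure Node where
  sup : List ℕ
  nz : List ℕ
  act : Act

/-- The auxiliary variable. -/
def aux : ℕ := 100

/-- The symbolic word on a support. -/
def gw (S : List ℕ) : List (ℕ × CE) := S.map fun r => (r, CE.var r)

/-- The coefficient at a root. -/
def cf (w : List (ℕ × List (List ℕ))) (r : ℕ) : List (List ℕ) := (w.lookup r).getD []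

/-- The roots increase inside an interval. -/
def incr {α : Type} (n : ℕ) : ℕ → List (ℕ × α) → Bool
  | _, [] => true
  | k, p :: l => Nat.ble k p.1 && (Nat.blt p.1 n && incr n (p.1 + 1) l)

/-- The roots of a collected constant word, when all coefficients are one. -/
def norm (D : ChevalleyDatum) (l : List ℕ) : Option (List ℕ) :=
  let w := suppW D l
  bif w.all (fun p => Nat.blt p.1 D.nroots && p.2 == [[]]) then some (w.map Prod.fst) else none

/-- One move. -/
noncomputable def step (D : ChevalleyDatum) (C : Cert) (L : List ℕ) : Mv → Option (List ℕ)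
  | .cj a => bif Nat.blt a D.nroots then norm D (a :: L ++ [a]) else none
  | .wd w => bif w.all (fun i => Nat.blt i D.rank) then norm D (L.map (cImg C w)) else none

/-- A list of moves. -/
noncomputable def run (D : ChevalleyDatum) (C : Cert) : List ℕ → List Mv → Option (List ℕ)
  | L, [] => some L
  | L, m :: ms => match step D C L m with
    | some L' => run D C L' ms
    | none => none

variable (D : ChevalleyDatum) (C : Cert) (reps : List (List ℕ))

/-- The collected square. -/
def sqW (S : List ℕ) : List (ℕ × List (List ℕ)) := collPoly D (fun r => r) 400 (gw S ++ gw S)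

/-- The collected conjugate. -/
def cjW (a : ℕ) (S : List ℕ) : List (ℕ × List (List ℕ)) :=
  collPoly D (fun r => r) 400 ((a, CE.var aux) :: gw S ++ [(a, CE.var aux)])

/-- The check of a square-zero step. -/
def chkMono (l : List (List ℕ)) (f : ℕ → Bool) : Bool :=
  match l with
  | [m] => m.all f
  | _ => false

/-- The monomial next to the linear term. -/
def other (s : ℕ) (l : List (List ℕ)) : Option (List ℕ) :=
  match l with
  | [x, y] => bif x == [s] then some y else bif y == [s] then some x else none
  | _ => none

/-- The check of the exponent matrix. -/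
noncomputable def chkExp (S : List ℕ) (B : List (List ℤ)) (d : ℕ) : Bool :=
  allBelow (fun i => allBelow (fun k =>
    zbeq (OrthInvol.zsum (fun j => Int.mul (C.cA j (S.getD i 0)) ((B.getD j []).getD k 0)) D.rank)
      (cond (Nat.beq i k) (Int.ofNat d) 0)) S.length) S.length

/-- The check of one node. -/
noncomputable def chkNode (tab : List Node) (i : ℕ) (nd : Node) : Bool :=
  incr D.nroots (half D) (nd.sup.map fun r => (r, ())) && (Nat.blt D.nroots aux && (nd.nz.all (fun x => Nat.blt x D.nroots) &&
  match nd.act with
  | .one => nd.sup.isEmpty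
  | .zero m v j =>
      incr D.nroots (half D) (sqW D nd.sup) && (Nat.blt j i && (Nat.ble (half D) m && (Nat.blt m D.nroots &&
      (chkMono (cf (sqW D nd.sup) m) (fun x => x == v || nd.nz.contains x) &&
      ((tab.getD j ⟨[], [], .one⟩).nz.all (fun x => nd.nz.contains x) &&
      nd.sup.all (fun x => x == v || (tab.getD j ⟨[], [], .one⟩).sup.contains x))))))
  | .split r a b =>
      Nat.blt a i && (Nat.blt b i &&
      ((tab.getD a ⟨[], [], .one⟩).nz.all (fun x => nd.nz.contains x) &&
      (nd.sup.all (fun x => x == r || (tab.getD a ⟨[], [], .one⟩).sup.contains x) &&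
      ((tab.getD b ⟨[], [], .one⟩).nz.all (fun x => x == r || nd.nz.contains x) &&
      nd.sup.all (fun x => (tab.getD b ⟨[], [], .one⟩).sup.contains x)))))
  | .kill a s j e =>
      incr D.nroots (half D) (cjW D a nd.sup) && (Nat.blt j i && (Nat.blt a D.nroots && (Nat.blt s aux &&
      (match other s (cf (cjW D a nd.sup) s) with
        | some m => Nat.beq (m.filter (fun x => x == aux)).length (2 ^ e) &&
            m.all (fun x => x == aux || nd.nz.contains x)
        | none => false) &&
      ((tab.getD j ⟨[], [], .one⟩).nz.all (fun x => nd.nz.contains x &&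
          (!(x == aux) && (!(x == s) && cf (cjW D a nd.sup) x == [[x]]))) &&
      (cjW D a nd.sup).all (fun p => p.1 == s || p.2.isEmpty ||
        (tab.getD j ⟨[], [], .one⟩).sup.contains p.1)))))
  | .leaf e B k ms =>
      nd.sup.all (fun x => nd.nz.contains x) && (chkExp D C nd.sup B (2 ^ e) && (Nat.blt k reps.length &&
      ((reps.getD k []).all (fun x => Nat.blt x D.nroots) &&
      match run D C nd.sup ms, norm D (reps.getD k []) with
        | some L, some L' => L == L'
        | _, _ => false)))))

variable {D C reps} {F : Type u} [Field F] [CharP F 2] (hF : Facts.{u} D)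

omit [CharP F 2] in
theorem cf_map_self (S : List ℕ) (r : ℕ) :
    cf (S.map fun x => (x, [[x]])) r = if r ∈ S then [[r]] else [] := by
  induction S with
  | nil => simp [cf]
  | cons a S ih =>
    simp only [cf] at ih ⊢
    by_cases h : r = a
    · subst h; simp
    · have : (r == a) = false := by simpa using h
      rw [List.map_cons, List.lookup_cons, this]
      simp [h, ih]

theorem incr_map {α β : Type} (n : ℕ) (f : α → β) : ∀ (k : ℕ) (l : List (ℕ × α)),
    incr n k (l.map fun p => (p.1, f p.2)) = incr n k l
  | _, [] => rfl
  | k, p :: l => by simp [incr, incr_map n f _ l]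

omit [CharP F 2] in
theorem wordG_incr (ρ : ℕ → F) : ∀ (d k : ℕ) (w : List (ℕ × List (List ℕ))), D.nroots - k = d →
    incr D.nroots k w = true →
    wordG hF (w.map fun p => (p.1, CE.pval ρ p.2)) = prodFrom hF k fun r => CE.pval ρ (cf w r) := by
  intro d
  induction d with
  | zero =>
    intro k w hd h
    match w with
    | [] => rw [prodFrom_top hF (by omega)]; simp [wordG]
    | p :: w =>
      simp only [incr, Bool.and_eq_true, Nat.ble_eq, Nat.blt_eq] at h
      omega
  | succ d ih =>
    intro k w hd h
    rw [prodFrom_succ hF (by omega)]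
    match w with
    | [] =>
      rw [← ih (k + 1) [] (by omega) rfl]
      simp [cf, CE.pval, xG_zero, wordG]
    | p :: w =>
      simp only [incr, Bool.and_eq_true, Nat.ble_eq, Nat.blt_eq] at h
      obtain ⟨h1, h2, h3⟩ := h
      rcases Nat.lt_or_eq_of_le h1 with hlt | rfl
      · have hnone : ∀ (l : List (ℕ × List (List ℕ))) (m : ℕ), incr D.nroots m l = true → k < m →
            cf l k = [] := by
          intro l
          induction l with
          | nil => intros; rfl
          | cons q l ihl =>
            intro m hm hkm
            simp only [incr, Bool.and_eq_true, Nat.ble_eq, Nat.blt_eq] at hm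
            have : (k == q.1) = false := by simp; omega
            rw [cf, List.lookup_cons, this]
            exact ihl _ hm.2.2 (by omega)
        have hw : incr D.nroots (k + 1) (p :: w) = true := by
          simp only [incr, Bool.and_eq_true, Nat.ble_eq, Nat.blt_eq]
          exact ⟨hlt, h2, h3⟩
        rw [hnone _ _ hw (by omega), ← ih (k + 1) _ (by omega) hw]
        simp [CE.pval, xG_zero]
      · have e : prodFrom hF (p.1 + 1) (fun r => CE.pval ρ (cf (p :: w) r)) =
            prodFrom hF (p.1 + 1) (fun r => CE.pval ρ (cf w r)) := by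
          refine prodFrom_congr hF fun r a _ => ?_
          have : (r == p.1) = false := by simp; omega
          rw [cf, List.lookup_cons, this]
          rfl
        rw [List.map_cons, wordG_cons, ih (p.1 + 1) w (by omega) h3, e]
        obtain ⟨q, v⟩ := p
        simp [cf]

/-- The parameters, with a value for the auxiliary variable. -/
def env (t : ℕ → F) (v : F) (x : ℕ) : F := if x = aux then v else t x

theorem wordC_gw {S : List ℕ} {t : ℕ → F} (v : F) (hn : D.nroots < aux)
    (hS : incr D.nroots (half D) (S.map fun r => (r, ())) = true)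
    (ht : ∀ r, half D ≤ r → r < D.nroots → r ∉ S → t r = 0) :
    wordC hF (env t v) (gw S) = prodFrom hF (half D) t := by
  have e : wordC hF (env t v) (gw S) =
      wordG hF ((S.map fun r => (r, [[r]])).map fun p => (p.1, CE.pval (env t v) p.2)) := by
    simp [wordC, gw, CE.val, CE.pval, Function.comp_def]
  have hS' : incr D.nroots (half D) (S.map fun r => (r, [[r]])) = true := by
    have key : ∀ (S : List ℕ) (k : ℕ), incr D.nroots k (S.map fun r => (r, [[r]])) =
        incr D.nroots k (S.map fun r => (r, ())) := by
      intro S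
      induction S with
      | nil => intro k; rfl
      | cons a S ih => intro k; simp only [List.map_cons, incr, ih]
    rw [key]; exact hS
  rw [e, wordG_incr hF _ _ _ _ rfl hS']
  refine prodFrom_congr hF fun r h1 h2 => ?_
  rw [cf_map_self]
  by_cases h : r ∈ S
  · have : r ≠ aux := by omega
    simp [h, CE.pval, env, this]
  · simp [h, CE.pval, ht r h1 h2 h]

theorem norm_spec {l L : List ℕ} (h : norm D l = some L) :
    XL hF l (F := F) = XL hF L ∧ ∀ r ∈ L, r < D.nroots := by
  rw [norm] at h
  cases hb : (suppW D l).all (fun p => Nat.blt p.1 D.nroots && p.2 == [[]])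
  · simp [hb] at h
  · simp only [hb, cond_true, Option.some.injEq] at h
    subst h
    simp only [List.all_eq_true, Bool.and_eq_true, Nat.blt_eq, beq_iff_eq] at hb
    refine ⟨?_, fun r hr => ?_⟩
    · rw [OrthInvol.wordC_suppW]
      simp only [XL, List.map_map]
      refine congrArg (wordG hF) (List.map_congr_left fun p hp => ?_)
      simp [(hb p hp).2, CE.pval]
    · obtain ⟨p, hp, rfl⟩ := List.mem_map.1 hr
      exact (hb p hp).1

theorem XL_map_cImg (hC : Checks D C) : ∀ (w : List ℕ), (∀ i ∈ w, i < D.rank) → ∀ L : List ℕ,
    (∀ r ∈ L, r < D.nroots) → (∀ r ∈ L, cImg C w r < D.nroots) ∧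
      CjS (D.group F) (XL hF L) (XL hF (L.map (cImg C w)))
  | [], _, L, h => by
    have e : L.map (cImg C []) = L := by
      show L.map (fun r => r) = L
      simp
    rw [e]
    exact ⟨fun r hr => h r hr, 1, Subgroup.one_mem _, by simp⟩
  | i :: w, hw, L, h => by
    obtain ⟨h1, h2⟩ := XL_map_cImg hC w (fun j hj => hw j (List.mem_cons_of_mem _ hj)) L h
    have hi := hw i (List.mem_cons_self ..)
    have e : L.map (cImg C (i :: w)) = (L.map (cImg C w)).map (D.reflectRoot i) := by
      rw [List.map_map]
      refine List.map_congr_left fun r hr => ?_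
      show C.cW i (cImg C w r) = D.reflectRoot i (cImg C w r)
      exact (refl_split hC hi (h1 r hr)).1.symm
    refine ⟨fun r hr => (refl_split hC hi (h1 r hr)).2.1, h2.trans ?_⟩
    rw [e]
    refine ⟨nS hF i, OrthInvol.nS_mem_group' hF ⟨i, hi⟩, ?_⟩
    have := OrthInvol.nS_XL hF ⟨i, hi⟩ (L.map (cImg C w)) (fun r hr => by
      obtain ⟨x, hx, rfl⟩ := List.mem_map.1 hr; exact h1 x hx) (F := F)
    rw [this, mul_inv_cancel_right]

theorem run_spec (hC : Checks D C) : ∀ (ms : List Mv) (L L' : List ℕ), (∀ r ∈ L, r < D.nroots) →
    run D C L ms = some L' → CjS (D.group F) (XL hF L) (XL hF L')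
  | [], L, L', _, h => by
    simp only [run, Option.some.injEq] at h
    subst h
    exact ⟨1, Subgroup.one_mem _, by simp⟩
  | m :: ms, L, L', hL, h => by
    rw [run] at h
    cases hs : step D C L m with
    | none => rw [hs] at h; simp at h
    | some M =>
      rw [hs] at h
      suffices hm : CjS (D.group F) (XL hF L) (XL hF M) ∧ ∀ r ∈ M, r < D.nroots from
        hm.1.trans (run_spec hC ms M L' hm.2 h)
      cases m with
      | cj a =>
        simp only [step] at hs
        cases ha : Nat.blt a D.nroots
        · simp [ha] at hs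
        · rw [ha, cond_true] at hs
          obtain ⟨e, hM⟩ := norm_spec hF hs (F := F)
          refine ⟨⟨xG hF a 1, OrthInvol.xG_mem_group hF (nblt_iff.1 ha) 1, ?_⟩, hM⟩
          rw [← e, OrthInvol.xG_inv_two]
          simp [XL, wordG, mul_assoc]
      | wd w =>
        simp only [step] at hs
        cases ha : w.all (fun i => Nat.blt i D.rank)
        · simp [ha] at hs
        · rw [ha, cond_true] at hs
          obtain ⟨e, hM⟩ := norm_spec hF hs (F := F)
          simp only [List.all_eq_true, Nat.blt_eq] at ha
          exact ⟨e ▸ (XL_map_cImg hF hC w ha L hL).2, hM⟩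

omit [CharP F 2] in
theorem prod_split (ρ : ℕ → F) : ∀ m : List ℕ, (m.map ρ).prod =
    ρ aux ^ (m.filter fun x => x == aux).length * ((m.filter fun x => !(x == aux)).map ρ).prod
  | [] => by simp
  | a :: m => by
    rw [List.map_cons, List.prod_cons, prod_split ρ m]
    by_cases h : a = aux
    · subst h
      simp [pow_succ]
      ring
    · simp [h]
      ring

theorem prod_ne_zero' (ρ : ℕ → F) {m : List ℕ} (h : ∀ x ∈ m, ρ x ≠ 0) : (m.map ρ).prod ≠ 0 :=
  List.prod_ne_zero fun h0 => by
    obtain ⟨x, hx, e⟩ := List.mem_map.1 h0
    exact h x hx e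

theorem zpow_sum' {ι : Type} (U : Fˣ) (f : ι → ℤ) (s : Finset ι) :
    ∏ j ∈ s, U ^ f j = U ^ ∑ j ∈ s, f j := by
  classical
  induction s using Finset.induction_on with
  | empty => simp
  | insert a s ha ih => rw [Finset.prod_insert ha, Finset.sum_insert ha, ih, zpow_add]

variable [Fintype F]

theorem scale_leaf (hC : Checks D C) {S : List ℕ} {B : List (List ℤ)} {e : ℕ}
    (hB : chkExp D C S B (2 ^ e) = true) (hS : ∀ r ∈ S, r < D.nroots) (t : ℕ → F)
    (ht : ∀ r ∈ S, t r ≠ 0) : ∃ c : Fin D.rank → Fˣ, ∀ r ∈ S, (chiU c r : F) * t r = 1 := by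
  simp only [chkExp, allBelow_iff, zbeq_iff, OrthInvol.zsum_eq] at hB
  have hroot : ∀ i : Fin S.length, ∃ U : Fˣ, ((U : F)) ^ (2 ^ e) = (t (S.getD i 0))⁻¹ := by
    intro i
    have hne := ht _ (show S.getD i 0 ∈ S by simp)
    obtain ⟨l, hl⟩ := (iterateFrobeniusEquiv F 2 e).surjective (t (S.getD i 0))⁻¹
    rw [iterateFrobeniusEquiv_apply] at hl
    refine ⟨Units.mk0 l fun h0 => ?_, hl⟩
    rw [h0, map_zero] at hl
    exact inv_ne_zero hne hl.symm
  choose U hU using hroot
  refine ⟨fun j => ∏ k : Fin S.length, U k ^ (B.getD j []).getD k 0, fun r hr => ?_⟩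
  obtain ⟨i, hi, rfl⟩ := List.getElem_of_mem hr
  have hge : S.getD i 0 = S[i] := by simp [hi]
  have : chiU (fun j : Fin D.rank => ∏ k : Fin S.length, U k ^ (B.getD j []).getD k 0) S[i] =
      U ⟨i, hi⟩ ^ (2 ^ e) := by
    simp only [chiU, ← Finset.prod_zpow, ← zpow_mul]
    rw [Finset.prod_comm]
    simp only [zpow_sum']
    rw [Finset.prod_eq_single (⟨i, hi⟩ : Fin S.length)]
    · rw [← zpow_natCast]
      congr 1
      have := hB i hi i hi
      simp only [show Nat.beq i i = true from nbeq_iff.2 rfl, cond_true, hge, Int.mul_def] at this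
      rw [show ((2 ^ e : ℕ) : ℤ) = Int.ofNat (2 ^ e) from rfl, ← this]
      exact Finset.sum_congr rfl fun j _ => by rw [cartan_eq hC j.2 (hS _ hr), mul_comm]
    · intro k _ hk
      have := hB i hi k k.2
      have hne : Nat.beq i k = false := nbeq_false_iff.2 fun h => hk (Fin.ext h.symm)
      simp only [hne, cond_false, hge, Int.mul_def] at this
      rw [show ∑ j : Fin D.rank, (B.getD j []).getD k 0 * D.cartan j S[i] = 0 from
        (Finset.sum_congr rfl fun j _ => by rw [cartan_eq hC j.2 (hS _ hr), mul_comm]).trans this,
        zpow_zero]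
    · exact fun h => absurd (Finset.mem_univ _) h
  rw [this, Units.val_pow_eq_pow_val, hU]
  simp only [hge]
  exact inv_mul_cancel₀ (ht _ hr)

/-- What a node asserts. -/
def Claim (reps : List (List ℕ)) (hF : Facts.{u} D) (F : Type u) [Field F] (nd : Node) : Prop :=
  ∀ t : ℕ → F, (∀ r, half D ≤ r → r < D.nroots → r ∉ nd.sup → t r = 0) → (∀ r ∈ nd.nz, t r ≠ 0) →
    prodFrom hF (half D) t * prodFrom hF (half D) t = 1 →
    prodFrom hF (half D) t = 1 ∨
      ∃ k < reps.length, CjS (D.group F) (prodFrom hF (half D) t) (XL hF (reps.getD k []))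

theorem node_sound (hC : Checks D C) {tab : List Node} {i : ℕ} {nd : Node}
    (hch : chkNode D C reps tab i nd = true)
    (ih : ∀ j < i, Claim reps hF F (tab.getD j ⟨[], [], .one⟩)) : Claim reps hF F nd := by
  intro t ht hP hsq
  simp only [chkNode, Bool.and_eq_true, Nat.blt_eq] at hch
  obtain ⟨hS, hn, hnzlt, hact⟩ := hch
  simp only [List.all_eq_true, Nat.blt_eq] at hnzlt
  have hnaux : ∀ x ∈ nd.nz, x ≠ aux := fun x hx => by have := hnzlt x hx; omega
  cases hA : nd.act with
  | one =>
    rw [hA] at hact
    rw [List.isEmpty_iff] at hact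
    refine Or.inl ?_
    rw [← wordC_gw hF (0 : F) hn hS ht, hact]
    simp [gw, wordC, wordG]
  | zero m v j =>
    rw [hA] at hact
    simp only [Bool.and_eq_true, Nat.blt_eq, Nat.ble_eq, List.all_eq_true, Bool.or_eq_true,
      beq_iff_eq, List.contains_iff_mem] at hact
    obtain ⟨hw, hj, hm1, hm2, hmono, hnz, hsup⟩ := hact
    refine ih j hj t (fun r h1 h2 hr => ?_) (fun r hr => hP r (hnz r hr)) hsq
    by_cases hrS : r ∈ nd.sup
    · rcases hsup r hrS with rfl | h
      · have e : prodFrom hF (half D) (fun x => CE.pval (env t 0) (cf (sqW D nd.sup) x)) =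
            prodFrom hF (half D) (fun _ => (0 : F)) := by
          rw [← wordG_incr hF _ _ _ _ rfl hw, sqW, ← wordC_collPoly, wordC_append,
            wordC_gw hF (0 : F) hn hS ht, hsq, prodFrom, wordG]
          rw [List.map_map]
          exact (List.prod_eq_one fun x hx => by
            obtain ⟨y, -, rfl⟩ := List.mem_map.1 hx
            exact xG_zero hF y).symm
        have h0 := prodFrom_inj hF _ _ rfl le_rfl e m hm1 hm2
        unfold chkMono at hmono
        match hc : cf (sqW D nd.sup) m, hmono with
        | [mm], hmono =>
          simp only [hc, CE.pval, List.map_cons, List.map_nil, List.sum_cons, List.sum_nil,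
            add_zero, List.all_eq_true, Bool.or_eq_true, beq_iff_eq, List.contains_iff_mem] at h0 hmono
          by_contra hne
          refine prod_ne_zero' (env t 0) (fun x hx => ?_) h0
          rcases hmono x hx with rfl | h
          · have : x ≠ aux := by omega
            simpa [env, this] using hne
          · simpa [env, hnaux x h] using hP x h
      · exact absurd h hr
    · exact ht r h1 h2 hrS
  | split r a b =>
    rw [hA] at hact
    simp only [Bool.and_eq_true, Nat.blt_eq, List.all_eq_true, Bool.or_eq_true, beq_iff_eq,
      List.contains_iff_mem] at hact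
    obtain ⟨ha, hb, hanz, hasup, hbnz, hbsup⟩ := hact
    by_cases h : t r = 0
    · refine ih a ha t (fun x h1 h2 hx => ?_) (fun x hx => hP x (hanz x hx)) hsq
      by_cases hxS : x ∈ nd.sup
      · exact (hasup x hxS).elim (fun e => e ▸ h) fun e => absurd e hx
      · exact ht x h1 h2 hxS
    · refine ih b hb t (fun x h1 h2 hx => ht x h1 h2 fun e => hx (hbsup x e)) (fun x hx => ?_) hsq
      exact (hbnz x hx).elim (fun e => e ▸ h) (hP x)
  | kill a s j e =>
    rw [hA] at hact
    simp only [Bool.and_eq_true, Nat.blt_eq, List.all_eq_true, Bool.or_eq_true, beq_iff_eq,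
      List.contains_iff_mem, List.isEmpty_iff, Bool.not_eq_true', beq_eq_false_iff_ne] at hact
    obtain ⟨hw, hj, ha, ⟨hs, hother⟩, hnz, hsup⟩ := hact
    cases ho : other s (cf (cjW D a nd.sup) s) with
    | none => rw [ho] at hother; simp at hother
    | some m =>
      rw [ho] at hother
      simp only [Bool.and_eq_true, nbeq_iff, List.all_eq_true, Bool.or_eq_true, beq_iff_eq,
        List.contains_iff_mem] at hother
      obtain ⟨hcnt, hm⟩ := hother
      set M : F := ((m.filter fun x => !(x == aux)).map (env t 0)).prod with hM
      have hM0 : M ≠ 0 := prod_ne_zero' _ fun x hx => by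
        simp only [List.mem_filter, Bool.not_eq_true', beq_eq_false_iff_ne] at hx
        rcases hm x hx.1 with h | h
        · exact absurd h hx.2
        · simpa [env, hx.2] using hP x h
      obtain ⟨v, hv⟩ := (iterateFrobeniusEquiv F 2 e).surjective (t s / M)
      rw [iterateFrobeniusEquiv_apply, iterateFrobenius_def] at hv
      set u : ℕ → F := fun x => CE.pval (env t v) (cf (cjW D a nd.sup) x) with hu
      have eg : prodFrom hF (half D) u = xG hF a v * prodFrom hF (half D) t * xG hF a v := by
        rw [hu, ← wordG_incr hF _ _ _ _ rfl hw, cjW, ← wordC_collPoly, List.cons_append, wordC_cons,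
          wordC_append, wordC_gw hF v hn hS ht, mul_assoc]
        simp [wordC, wordG, CE.val, env]
      have hus : u s = 0 := by
        have hpair : ∀ l : List (List ℕ), other s l = some m →
            CE.pval (env t v) l = env t v s + (m.map (env t v)).prod := by
          intro l hl
          match l, hl with
          | [x, y], hl =>
            simp only [other] at hl
            by_cases hx : x = [s]
            · subst hx
              simp at hl
              subst hl
              simp [CE.pval]
            · by_cases hy : y = [s]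
              · subst hy
                simp [beq_eq_false_iff_ne.2 hx] at hl
                subst hl
                simp [CE.pval, add_comm]
              · simp [beq_eq_false_iff_ne.2 hx, beq_eq_false_iff_ne.2 hy] at hl
        rw [hu]
        show CE.pval (env t v) _ = 0
        rw [hpair _ ho, prod_split, hcnt]
        have e1 : ((m.filter fun x => !(x == aux)).map (env t v)).prod = M := by
          rw [hM]
          refine congrArg List.prod (List.map_congr_left fun x hx => ?_)
          simp only [List.mem_filter, Bool.not_eq_true', beq_eq_false_iff_ne] at hx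
          simp [env, hx.2]
        have : s ≠ aux := Nat.ne_of_lt hs
        rw [e1, show env t v aux = v by simp [env], hv, div_mul_cancel₀ _ hM0,
          show env t v s = t s by simp [env, this], CharTwo.add_self_eq_zero]
      have hinv : (xG hF a v : GL D.Idx F)⁻¹ = xG hF a v := OrthInvol.xG_inv_two hF a v
      have hsqu : prodFrom hF (half D) u * prodFrom hF (half D) u = 1 := by
        rw [eg]
        conv_lhs => enter [1, 2]; rw [← hinv]
        conv_lhs => enter [2, 2]; rw [← hinv]
        rw [show ∀ x g : GL D.Idx F, x * g * x⁻¹ * (x * g * x⁻¹) = x * (g * g) * x⁻¹ from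
          fun x g => by group, hsq, mul_one, mul_inv_cancel]
      have hxa := OrthInvol.xG_mem_group hF ha v (F := F)
      have hu' := ih j hj u (fun x h1 h2 hx => ?_) (fun x hx => ?_) hsqu
      · rcases hu' with h1 | ⟨k, hk, h1⟩
        · refine Or.inl ?_
          rw [eg] at h1
          conv_lhs at h1 => enter [2]; rw [← hinv]
          exact conj_eq_one_iff.1 h1
        · refine Or.inr ⟨k, hk, CjS.trans ⟨xG hF a v, hxa, ?_⟩ h1⟩
          rw [eg, hinv]
      · by_cases hxs : x = s
        · exact hxs ▸ hus
        · show CE.pval (env t v) (cf (cjW D a nd.sup) x) = 0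
          cases hl : (cjW D a nd.sup).lookup x with
          | none => simp [cf, hl, CE.pval]
          | some p =>
            have hmem : (x, p) ∈ cjW D a nd.sup := by
              obtain ⟨l₁, l₂, hl', -⟩ := List.lookup_eq_some_iff.1 hl
              rw [hl']
              simp
            rcases hsup _ hmem with (h | h) | h
            · exact absurd h hxs
            · simp only at h
              simp [cf, hl, h, CE.pval]
            · exact absurd h hx
      · obtain ⟨h1, h2, h3, h4⟩ := hnz x hx
        show CE.pval (env t v) (cf (cjW D a nd.sup) x) ≠ 0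
        rw [h4]
        simpa [CE.pval, env, h2] using hP x h1
  | leaf e B k ms =>
    rw [hA] at hact
    simp only [Bool.and_eq_true, Nat.blt_eq, List.all_eq_true, List.contains_iff_mem] at hact
    obtain ⟨hall, hB, hk, hrep, hrun⟩ := hact
    have hlt : ∀ r ∈ nd.sup, r < D.nroots := by
      have key : ∀ (S : List ℕ) (k : ℕ), incr D.nroots k (S.map fun r => (r, ())) = true →
          ∀ r ∈ S, r < D.nroots := by
        intro S
        induction S with
        | nil => intro _ _ r hr; simp at hr
        | cons a S ihS =>
          intro k h r hr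
          simp only [List.map_cons, incr, Bool.and_eq_true, Nat.blt_eq] at h
          rcases List.mem_cons.1 hr with rfl | hr
          · exact h.2.1
          · exact ihS _ h.2.2 r hr
      exact key _ _ hS
    obtain ⟨c, hc⟩ := scale_leaf hC hB hlt t fun r hr => hP r (hall r hr)
    have hg : prodFrom hF (half D) t = wordG hF (nd.sup.map fun r => (r, t r)) := by
      rw [← wordC_gw hF (0 : F) hn hS ht]
      simp only [wordC, gw, List.map_map]
      refine congrArg (wordG hF) (List.map_congr_left fun r hr => ?_)
      have : r ≠ aux := by have := hlt r hr; omega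
      simp [CE.val, env, this]
    have htor := OrthInvol.torus_word hF c (nd.sup.map fun r => (r, t r)) (fun p hp => by
      obtain ⟨r, hr, rfl⟩ := List.mem_map.1 hp
      exact ⟨hlt r hr, hc r hr⟩)
    refine Or.inr ⟨k, hk, CjS.trans (h := XL hF nd.sup) ⟨torusHom c,
      borel_le_group hF (Subgroup.mem_sup_right (torusHom_mem hF c)), ?_⟩ ?_⟩
    · rw [hg, htor, mul_inv_cancel_right]
      simp [Function.comp_def]
    · cases h1 : run D C nd.sup ms with
      | none => rw [h1] at hrun; simp at hrun
      | some L =>
        cases h2 : norm D (reps.getD k []) with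
        | none => rw [h1, h2] at hrun; simp at hrun
        | some L' =>
          rw [h1, h2, beq_iff_eq] at hrun
          subst hrun
          rw [(norm_spec hF h2 (F := F)).1]
          exact run_spec hF hC ms _ _ hlt h1

/-- The check of the nodes in an interval. -/
noncomputable def chkRange (D : ChevalleyDatum) (C : Cert) (reps : List (List ℕ)) (tab : List Node)
    (lo n : ℕ) : Bool :=
  allBelow (fun i => force (Nat.add lo i) fun x => chkNode D C reps tab x (tab.getD x ⟨[], [], .one⟩)) n

theorem chkRange_spec {tab : List Node} {lo n : ℕ} (h : chkRange D C reps tab lo n = true) :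
    ∀ i, lo ≤ i → i < lo + n → chkNode D C reps tab i (tab.getD i ⟨[], [], .one⟩) = true := by
  intro i h1 h2
  simp only [chkRange, allBelow_iff, force_eq, Nat.add_eq] at h
  have := h (i - lo) (by omega)
  rwa [show lo + (i - lo) = i by omega] at this

/-- Every involution is conjugate to a representative. -/
theorem invol_reps (hC : Checks D C) {tab : List Node} {top : ℕ}
    (hall : ∀ i ≤ top, chkNode D C reps tab i (tab.getD i ⟨[], [], .one⟩) = true)
    (hsup : (tab.getD top ⟨[], [], .one⟩).sup = List.range' (half D) (D.nroots - half D))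
    (hnz : (tab.getD top ⟨[], [], .one⟩).nz = [])
    {g : GL D.Idx F} (hg : g ∈ D.group F) (hsq : g * g = 1) (hne : g ≠ 1) :
    ∃ k < reps.length, CjS (D.group F) g (XL hF (reps.getD k [])) := by
  have claim : ∀ i ≤ top, Claim reps hF F (tab.getD i ⟨[], [], .one⟩) := by
    intro i
    induction i using Nat.strong_induction_on with
    | _ i ih =>
      intro hi
      exact node_sound hF hC (hall i hi) fun j hj => ih j hj (by omega)
  obtain ⟨h, hh, hc⟩ := OrthInvol.conj_into_U hF hg hsq
  obtain ⟨t, rfl⟩ := (mem_posUnipotent_iff hF).1 hh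
  have hsq' : prodFrom hF (half D) t * prodFrom hF (half D) t = 1 := by
    obtain ⟨e, -, he⟩ := hc
    rw [← he, show e * g * e⁻¹ * (e * g * e⁻¹) = e * (g * g) * e⁻¹ by group, hsq, mul_one,
      mul_inv_cancel]
  rcases claim top le_rfl t (fun r h1 h2 hr => absurd (by
      rw [hsup, List.mem_range'_1]; omega) hr) (by rw [hnz]; simp) hsq' with h1 | ⟨k, hk, h1⟩
  · rw [h1] at hc
    obtain ⟨e, -, he⟩ := hc
    exact absurd (conj_eq_one_iff.1 he) hne
  · exact ⟨k, hk, hc.trans h1⟩

end UniCert

end Cfsg.Agent.Chev
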